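import Cfsg.Agent.S0205
import Cfsg.Agent.S0961
import Cfsg.Agent.Lib.Blocks.ThirdMain
import Cfsg.Agent.Lib.Blocks.OneClassPrincipal
import Cfsg.Agent.Lib.BlocksX.KleinSections
import Cfsg.Agent.Lib.Char.Linear
import Cfsg.Agent.Lib.Char.Descend

/-!
# A principal 2-block with `χ(1) - χ(u)` constant on the non-principal characters

If the constant `k` is not `0` then all nontrivial 2-elements are conjugate involutions, `k` is the
order `q` of a Sylow 2-subgroup, and for `q ≠ 2` every non-principal character of the block takes the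
value `χ(1) - q` at the involutions.
-/

set_option autoImplicit false
set_option linter.style.haveILetI false
set_option linter.unusedSectionVars false

namespace Cfsg.Agent.DegreeGap

open Cfsg Cfsg.Agent Cfsg.Agent.Blocks
open scoped ComplexConjugate

universe u

variable {G : Type u} [Group G] [Fintype G]

/-- The constant difference hypothesis. -/
def Gap (M : Ideal AlgInt) (u : G) (k : ℂ) : Prop :=
  ∀ χ : IrrCharacter G, χ ∈ principalBlock M G → χ ≠ Char.trivialChar G → χ.1 1 - χ.1 u = k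

/-- The principal block as a finset. -/
noncomputable def blk (M : Ideal AlgInt) (G : Type u) [Group G] [Fintype G] :
    Finset (IrrCharacter G) :=
  open Classical in Finset.univ.filter (· ∈ principalBlock M G)

theorem mem_blk {M : Ideal AlgInt} {χ : IrrCharacter G} :
    χ ∈ blk M G ↔ χ ∈ principalBlock M G := by simp [blk]

theorem conj_degree (χ : IrrCharacter G) : conj (χ.1 1) = χ.1 1 := by
  rw [Char.apply_one_eq_degree, map_natCast]

/-- The order of a Sylow 2-subgroup. -/
noncomputable def twoPart (G : Type u) [Group G] : ℕ := 2 ^ (Nat.card G).factorization 2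

theorem card_sylow [Fact (Nat.Prime 2)] (P : Sylow 2 G) :
    Nat.card (P : Subgroup G) = twoPart G := P.card_eq_multiplicity

variable {M : Ideal AlgInt} [M.IsMaximal] [Fact (Nat.Prime 2)]
  (hpM : ((2 : ℕ) : AlgInt) ∈ M)

theorem trivial_mem_blk : Char.trivialChar G ∈ blk M G :=
  mem_blk.2 trivial_mem_principalBlock

include hpM

set_option maxHeartbeats 1000000 in
/-- A homomorphism to `ℂ` trivial on the centraliser of a Sylow 2-subgroup preserves the principal
block under twisting. -/
theorem twist_mem (P : Sylow 2 G) (lam : G →* ℂ)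
    (hlam : ∀ g ∈ Subgroup.centralizer ((P : Subgroup G) : Set G), lam g = 1)
    {χ : IrrCharacter G} (hχ : χ ∈ principalBlock M G) :
    (⟨⇑lam * χ.1, Char.IsIrrCharacter.mul_linear χ.2 lam⟩ : IrrCharacter G) ∈
      principalBlock M G := by
  classical
  intro g
  have h1 := hχ g
  set K := (Subgroup.centralizer ({g} : Set G)).index with hKdef
  show MemLocalIdeal M (centralChar (fun _ : G => (1 : ℂ)) g - centralChar (⇑lam * χ.1) g)
  have e : centralChar (⇑lam * χ.1) g = lam g * centralChar χ.1 g := by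
    simp only [centralChar, Pi.mul_apply, map_one, one_mul]
    ring
  by_cases hl : lam g = 1
  · rwa [e, hl, one_mul]
  -- otherwise no conjugate of `P` centralises `g`, so the class has even size
  have hev : 2 ∣ K := by
    by_contra hodd
    obtain ⟨Q⟩ := (inferInstance : Nonempty (Sylow 2 (Subgroup.centralizer ({g} : Set G))))
    have hQ : Nat.card ((Q : Subgroup _).map (Subgroup.centralizer ({g} : Set G)).subtype) =
        2 ^ (Nat.card G).factorization 2 := by
      rw [Subgroup.card_map_of_injective (Subgroup.subtype_injective _), Q.card_eq_multiplicity,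
        ← Subgroup.card_mul_index (Subgroup.centralizer ({g} : Set G)),
        Nat.factorization_mul Nat.card_pos.ne' Subgroup.index_ne_zero_of_finite, Finsupp.add_apply,
        Nat.factorization_eq_zero_of_not_dvd hodd, add_zero]
    obtain ⟨x, hx⟩ := MulAction.exists_smul_eq G P
      (Sylow.ofCard ((Q : Subgroup _).map (Subgroup.centralizer ({g} : Set G)).subtype) hQ)
    apply hl
    have hmem : x⁻¹ * g * x ∈ Subgroup.centralizer ((P : Subgroup G) : Set G) := by
      rw [Subgroup.mem_centralizer_iff]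
      intro y hy
      have hy' : x * y * x⁻¹ ∈ ((x • P : Sylow 2 G) : Subgroup G) :=
        ⟨y, hy, rfl⟩
      rw [hx] at hy'
      obtain ⟨c, -, hc⟩ := hy'
      have h3 := Subgroup.mem_centralizer_singleton_iff.1 c.2
      rw [show (c : G) = x * y * x⁻¹ from hc] at h3
      calc y * (x⁻¹ * g * x) = x⁻¹ * (x * y * x⁻¹ * g) * x := by group
        _ = x⁻¹ * (g * (x * y * x⁻¹)) * x := by rw [h3]
        _ = x⁻¹ * g * x * y := by group
    have := hlam _ hmem
    rwa [map_mul, map_mul, mul_right_comm, ← map_mul, inv_mul_cancel, map_one, one_mul] at this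
  have hone : MemLocalIdeal M (centralChar (fun _ : G => (1 : ℂ)) g) := by
    simp only [centralChar, div_one, mul_one]
    exact (memLocalIdeal_natCast_iff hpM _).2 hev
  have hchi : MemLocalIdeal M (centralChar χ.1 g) :=
    (memLocalIdeal_iff_of_sub h1).1 hone
  have hlint : MemLocalRing M (lam g) :=
    memLocalRing_of_isIntegral (CharInt.isIntegral_char
      (Char.irr_isCharacter (Char.linIrr lam)) g)
  rw [e]
  exact MemLocalIdeal.sub hone (MemLocalIdeal.mul_left hlint hchi)

omit hpM in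
/-- A nontrivial homomorphism to `ℂ` killing a proper normal subgroup of odd index. -/
theorem exists_linear (L : Subgroup G) [L.Normal] (hL : L ≠ ⊤) (hodd : Odd L.index) :
    ∃ lam : G →* ℂ, lam ≠ 1 ∧ (∀ g ∈ L, lam g = 1) ∧
      ∀ g, lam g ≠ 1 → lam (g * g) ≠ 1 := by
  classical
  haveI : Group.IsSolvable (G ⧸ L) :=
    S0205.result (by rw [← Subgroup.index_eq_card]; exact hodd)
  haveI : Nontrivial (G ⧸ L) := by
    rw [← Finite.one_lt_card_iff_nontrivial, ← Subgroup.index_eq_card]
    exact Nat.one_lt_iff_ne_zero_and_ne_one.2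
      ⟨Subgroup.index_ne_zero_of_finite, fun h => hL (Subgroup.index_eq_one.1 h)⟩
  have h1 : 1 < Nat.card (G ⧸ L →* ℂ) := by
    rw [Char.card_monoidHom_complex]
    exact Nat.one_lt_iff_ne_zero_and_ne_one.2 ⟨Subgroup.index_ne_zero_of_finite,
      fun h => (Group.IsSolvable.commutator_lt_top_of_nontrivial (G ⧸ L)).ne
        (Subgroup.index_eq_one.1 h)⟩
  haveI : Finite (G ⧸ L →* ℂ) := Nat.finite_of_card_ne_zero (by omega)
  haveI := Finite.one_lt_card_iff_nontrivial.1 h1
  obtain ⟨μ, hμ⟩ := exists_ne (1 : G ⧸ L →* ℂ)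
  refine ⟨μ.comp (QuotientGroup.mk' L), fun h => hμ ?_, fun g hg => ?_, fun g hg hg2 => hg ?_⟩
  · refine MonoidHom.ext fun x => ?_
    obtain ⟨g, rfl⟩ := QuotientGroup.mk_surjective x
    exact DFunLike.congr_fun h g
  · rw [MonoidHom.comp_apply, QuotientGroup.mk'_apply, (QuotientGroup.eq_one_iff g).2 hg, map_one]
  · simp only [MonoidHom.comp_apply] at hg2 ⊢
    set x := (QuotientGroup.mk' L) g with hx
    obtain ⟨m, hm⟩ := hodd
    have e : x ^ (2 * m + 1) = 1 := by
      rw [← hm, Subgroup.index_eq_card]; exact pow_card_eq_one'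
    have h2 : μ x ^ 2 = 1 := by rw [← hg2, map_mul, map_mul, ← hx, pow_two]
    have h3 : μ x ^ (2 * m + 1) = 1 := by rw [← map_pow, e, map_one]
    rwa [pow_succ, pow_mul, h2, one_pow, one_mul] at h3

omit hpM in
theorem sum_blk_split (w : IrrCharacter G → ℂ) :
    ∑ χ ∈ blk M G, w χ =
      w (Char.trivialChar G) + ∑ χ ∈ (blk M G).erase (Char.trivialChar G), w χ :=
  (Finset.add_sum_erase _ _ trivial_mem_blk).symm

theorem sum_regular (x y : G) (hx : IsPRegular 2 x) (hy : ¬ IsPRegular 2 y) :
    ∑ χ ∈ blk M G, χ.1 x * conj (χ.1 y) = 0 := by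
  classical
  unfold blk
  exact weak_orthogonality hpM (isPBlock_principalBlock hpM) hx hy

theorem sum_deg_singular {y : G} (hy : ¬ IsPRegular 2 y) :
    ∑ χ ∈ blk M G, χ.1 1 * χ.1 y = 0 := by
  have h := congrArg conj (sum_regular hpM 1 y (by simp [IsPRegular]) hy)
  rw [map_sum, map_zero] at h
  rw [← h]
  exact Finset.sum_congr rfl fun χ _ => by rw [map_mul, conj_degree, Complex.conj_conj]

variable {u : G} {k : ℂ} (hgap : Gap M u k)

omit hpM in
include hgap in
theorem gap_sum (w : IrrCharacter G → ℂ) :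
    ∑ χ ∈ blk M G, w χ * (χ.1 1 - conj (χ.1 u)) =
      conj k * ((∑ χ ∈ blk M G, w χ) - w (Char.trivialChar G)) := by
  rw [sum_blk_split, sum_blk_split (w := w), add_sub_cancel_left, Finset.mul_sum]
  simp only [Char.trivialChar_apply, map_one, sub_self, mul_zero, zero_add]
  refine Finset.sum_congr rfl fun χ hχ => ?_
  obtain ⟨hne, hmem⟩ := Finset.mem_erase.1 hχ
  rw [← hgap χ (mem_blk.1 hmem) hne, map_sub, conj_degree, mul_comm]

include hgap

/-- Every nontrivial 2-element is conjugate to the 2-part of `u`. -/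
theorem isConj_two_part (hk : k ≠ 0) {z : G} (hu : IsPPart 2 u z) {v : G}
    (hv : ∃ e, orderOf v = 2 ^ e) (hv1 : v ≠ 1) : IsConj v z := by
  classical
  by_contra hn
  haveI := charP_residue hpM
  have hB := isPBlock_principalBlock (G := G) hpM
  have hvv : IsPPart 2 v v := OneClass.isPPart_self hv
  have h1 : ∑ χ ∈ blk M G, χ.1 v * conj (χ.1 u) = 0 := by
    unfold blk; exact block_orthogonality hpM hvv hu hn hB
  have hvs : ¬ IsPRegular 2 v := by
    obtain ⟨e, he⟩ := hv
    intro h
    apply h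
    rw [he]
    refine dvd_pow_self 2 fun e0 => hv1 ?_
    rw [e0, pow_zero] at he
    exact orderOf_eq_one_iff.1 he
  have h2 : ∑ χ ∈ blk M G, χ.1 v * χ.1 1 = 0 := by
    rw [← sum_deg_singular hpM hvs]
    exact Finset.sum_congr rfl fun χ _ => mul_comm _ _
  have h3 : ∑ χ ∈ blk M G, χ.1 v = 1 := by
    have := gap_sum hgap (fun χ => χ.1 v)
    simp only [mul_sub, Finset.sum_sub_distrib, h1, h2, sub_zero, Char.trivialChar_apply] at this
    rw [← mul_sub] at this
    rcases mul_eq_zero.1 this.symm with h | h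
    · exact absurd (by simpa using h) hk
    · exact sub_eq_zero.1 h
  have hint : ∀ (χ : IrrCharacter G) (g : G), MemLocalRing M (χ.1 g) := memLocalRing_irr
  have hred : ∀ χ : IrrCharacter G, red M (χ.1 v) = red M (χ.1 1) := fun χ => by
    rw [red_eq_iff (hint χ v) (hint χ 1)]
    obtain ⟨e, he⟩ := hv
    simpa using memLocalIdeal_char_mul_sub hpM (Char.irr_isCharacter χ) (Commute.one_right v) he
  have h4 := congrArg (red M) h2
  rw [red_sum _ fun χ _ => MemLocalRing.mul (hint χ v) (hint χ 1), red_zero] at h4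
  have h5 := congrArg (red M) h3
  rw [red_sum _ fun χ _ => hint χ v, red_one] at h5
  simp only [red_mul (hint _ _) (hint _ _), hred, ← pow_two] at h4
  rw [← sum_pow_char 2, pow_eq_zero_iff two_ne_zero] at h4
  simp only [hred] at h5
  exact one_ne_zero (h5.symm.trans h4)

/-- The two-part of `u` is an involution and every nontrivial 2-element is conjugate to it. -/
theorem exists_involution (hk : k ≠ 0) (heven : 2 ∣ Nat.card G) :
    ∃ s : G, orderOf s = 2 ∧ IsPPart 2 u s ∧
      ∀ v : G, (∃ e, orderOf v = 2 ^ e) → v ≠ 1 → IsConj v s := by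
  obtain ⟨s, hs⟩ := exists_isPPart (p := 2) u
  obtain ⟨t, ht⟩ := exists_prime_orderOf_dvd_card' 2 heven
  have ht1 : t ≠ 1 := fun h => by rw [h, orderOf_one] at ht; omega
  have h := fun (v : G) hv hv1 => isConj_two_part hpM hgap hk hs (v := v) hv hv1
  obtain ⟨c, hc⟩ := isConj_iff.1 (h t ⟨1, by simpa using ht⟩ ht1)
  refine ⟨s, ?_, hs, h⟩
  rw [← hc, show c * t * c⁻¹ = MulAut.conj c t from rfl, MulEquiv.orderOf_eq, ht]

/-- The constant is the order of a Sylow 2-subgroup. -/
theorem k_eq (hk : k ≠ 0) (heven : 2 ∣ Nat.card G) : k = (twoPart G : ℂ) := by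
  classical
  obtain ⟨s, hs2, hus, -⟩ := exists_involution hpM hgap hk heven
  have hu : ¬ IsPRegular 2 u := by
    obtain ⟨i, hi⟩ := IsPPart.mem_zpowers hus
    intro h
    apply h
    exact (hs2 ▸ orderOf_dvd_of_mem_zpowers ⟨i, hi⟩ : 2 ∣ orderOf u)
  set q := twoPart G with hqdef
  have hq0 : (q : ℂ) ≠ 0 := by simp [hqdef, twoPart]
  set R : G → ℂ := fun g => ∑ χ ∈ blk M G, χ.1 1 * χ.1 g with hR
  set f : G → ℂ := fun g => (∑ χ ∈ blk M G, χ.1 g) - 1 with hf
  have hreg : ∀ g, IsPRegular 2 g → R g = conj k * f g := by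
    intro g hg
    have := gap_sum hgap (fun χ => χ.1 g)
    simp only [mul_sub, Finset.sum_sub_distrib, sum_regular hpM g u hg hu, sub_zero,
      Char.trivialChar_apply, mul_one] at this
    simp only [hR, hf]
    rw [mul_sub, mul_one, ← this]
    exact Finset.sum_congr rfl fun χ _ => mul_comm _ _
  have hsum : ∀ χ : IrrCharacter G, ∑ g, χ.1 g =
      if χ = Char.trivialChar G then (Nat.card G : ℂ) else 0 := by
    intro χ
    have h := Char.classInner_irr χ (Char.trivialChar G)
    simp only [classInner, Char.trivialChar_apply, map_one, mul_one] at h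
    rw [inv_mul_eq_iff_eq_mul₀ (Nat.cast_ne_zero.2 Nat.card_pos.ne')] at h
    rw [h]
    split_ifs <;> simp
  have hRsum : ∑ g ∈ Finset.univ.filter (fun g : G => IsPRegular 2 g), R g = (Nat.card G : ℂ) := by
    rw [Finset.sum_filter_of_ne (fun g _ hg => by
      by_contra hs; exact hg (sum_deg_singular hpM hs))]
    simp only [hR]
    rw [Finset.sum_comm, sum_blk_split]
    simp only [← Finset.mul_sum, hsum, if_true, Char.trivialChar_apply, one_mul]
    rw [Finset.sum_eq_zero (s := (blk M G).erase _) fun χ hχ => by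
      rw [if_neg (Finset.mem_erase.1 hχ).1, mul_zero], add_zero]
    simp [Nat.card_eq_fintype_card]
  have hZ : ∀ χ : IrrCharacter G, ∃ z : ℤ, (q : ℂ) * (Nat.card G : ℂ)⁻¹ *
      ∑ g ∈ Finset.univ.filter (fun g : G => IsPRegular 2 g), χ.1 g = (z : ℂ) := by
    intro χ
    obtain ⟨a, b, ha, hb, hab⟩ := S0961.result 2 χ
    obtain ⟨na, hna⟩ := BlocksX.Klein.classInner_eq_nat ha
    obtain ⟨nb, hnb⟩ := BlocksX.Klein.classInner_eq_nat hb
    refine ⟨(na : ℤ) - nb, ?_⟩
    push_cast
    rw [← hna, ← hnb, ← mul_sub, ← Finset.sum_sub_distrib, mul_comm (q : ℂ), mul_assoc,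
      Finset.mul_sum, Finset.sum_filter]
    refine congrArg _ (Finset.sum_congr rfl fun g _ => ?_)
    rw [← Pi.sub_apply, ← hab]
    simp only [IsPRegular, hqdef, twoPart]
    split_ifs <;> simp_all
  choose Z0 hZ0 using hZ
  set Z : ℤ := ∑ χ ∈ (blk M G).erase (Char.trivialChar G), Z0 χ with hZdef
  have hfe : ∀ g, f g = ∑ χ ∈ (blk M G).erase (Char.trivialChar G), χ.1 g := fun g => by
    simp only [hf]
    rw [sum_blk_split]
    simp
  have hkZ : conj k * (Z : ℂ) = (q : ℂ) := by
    have h1 : (Z : ℂ) = (q : ℂ) * (Nat.card G : ℂ)⁻¹ *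
        ∑ g ∈ Finset.univ.filter (fun g : G => IsPRegular 2 g), f g := by
      simp only [hfe, hZdef, Int.cast_sum]
      rw [Finset.sum_comm, Finset.mul_sum]
      exact Finset.sum_congr rfl fun χ _ => (hZ0 χ).symm
    rw [h1, mul_left_comm, Finset.mul_sum,
      ← Finset.sum_congr rfl fun g hg => hreg g (Finset.mem_filter.1 hg).2, hRsum,
      mul_assoc, inv_mul_cancel₀ (Nat.cast_ne_zero.2 Nat.card_pos.ne'), mul_one]
  -- the value of `R` at `1` is a multiple of `q`
  obtain ⟨P⟩ := (inferInstance : Nonempty (Sylow 2 G))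
  haveI := Fintype.ofFinite (P : Subgroup G)
  have hN : ∀ χ : IrrCharacter G, ∃ n : ℕ,
      (Nat.card (P : Subgroup G) : ℂ)⁻¹ * ∑ x : (P : Subgroup G), χ.1 x = n := fun χ =>
    BlocksX.Klein.classInner_eq_nat (Char.IsCharacter.restrict (Char.irr_isCharacter χ) _)
  choose N hN using hN
  set D : ℕ := ∑ χ ∈ blk M G, Char.degree χ * N χ with hD
  have hR1 : R 1 = (q : ℂ) * (D : ℂ) := by
    have h1 : ∑ x : (P : Subgroup G), R x = R 1 := by
      refine (Finset.sum_eq_single (1 : (P : Subgroup G)) (fun x _ hx => ?_) (by simp)).trans rfl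
      refine sum_deg_singular hpM fun h => ?_
      apply h
      obtain ⟨e, he⟩ := IsPGroup.iff_orderOf.1 P.2 x
      rw [Subgroup.orderOf_coe, he]
      refine dvd_pow_self 2 fun e0 => hx ?_
      rw [e0, pow_zero] at he
      exact orderOf_eq_one_iff.1 he
    rw [← h1, show q = Nat.card (P : Subgroup G) from (card_sylow P).symm, hD, Nat.cast_sum,
      Finset.mul_sum]
    simp only [hR]
    rw [Finset.sum_comm]
    refine Finset.sum_congr rfl fun χ _ => ?_
    rw [← Finset.mul_sum, Nat.cast_mul, Char.apply_one_eq_degree, ← hN, ← mul_assoc,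
      mul_comm (Nat.card _ : ℂ), mul_assoc, mul_inv_cancel_left₀
        (Nat.cast_ne_zero.2 Nat.card_pos.ne')]
  set F : ℤ := ∑ χ ∈ (blk M G).erase (Char.trivialChar G), (Char.degree χ : ℤ) with hF
  have hF1 : f 1 = (F : ℂ) := by
    rw [hfe, hF, Int.cast_sum]
    exact Finset.sum_congr rfl fun χ _ => by rw [Char.apply_one_eq_degree, Int.cast_natCast]
  have hk' : conj k ≠ 0 := by simpa using hk
  have hFDZ : F = (D : ℤ) * Z := by
    have h1 := hreg 1 (by simp [IsPRegular])
    rw [hR1, hF1, ← hkZ, mul_assoc] at h1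
    have h2 := mul_left_cancel₀ hk' h1
    have : ((F : ℤ) : ℂ) = (((D : ℤ) * Z : ℤ) : ℂ) := by push_cast; rw [← h2]; ring
    exact_mod_cast this
  have hFodd : ¬ (2 : ℤ) ∣ F := by
    intro h2
    have hR' : R 1 = ((∑ χ ∈ blk M G, (Char.degree χ) ^ 2 : ℕ) : ℂ) := by
      simp only [hR, Char.apply_one_eq_degree, Nat.cast_sum, Nat.cast_mul, pow_two]
    rw [hR1] at hR'
    have e1 : q * D = ∑ χ ∈ blk M G, (Char.degree χ) ^ 2 := by exact_mod_cast hR'
    have hq2 : 2 ∣ q := dvd_pow_self 2
      (Nat.Prime.factorization_pos_of_dvd Nat.prime_two Nat.card_pos.ne' heven).ne'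
    have e2 : ((∑ χ ∈ blk M G, Char.degree χ : ℕ) : ZMod 2) = 0 := by
      have : ((∑ χ ∈ blk M G, (Char.degree χ) ^ 2 : ℕ) : ZMod 2) = 0 := by
        rw [← e1, Nat.cast_mul, (CharP.cast_eq_zero_iff (ZMod 2) 2 _).2 hq2, zero_mul]
      rw [Nat.cast_sum] at this ⊢
      simpa using this
    have e3 : (∑ χ ∈ blk M G, Char.degree χ : ℤ) = 1 + F := by
      rw [hF, ← Finset.add_sum_erase _ _ (trivial_mem_blk (M := M) (G := G))]
      have : Char.degree (Char.trivialChar G) = 1 := by
        have := Char.apply_one_eq_degree (Char.trivialChar G)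
        simp at this
        exact_mod_cast this.symm
      rw [this, Nat.cast_one]
    rw [CharP.cast_eq_zero_iff (ZMod 2) 2] at e2
    have e4 : (2 : ℤ) ∣ 1 + F := e3 ▸ (by exact_mod_cast e2)
    omega
  have hZodd : ¬ (2 : ℤ) ∣ Z := fun h => hFodd (hFDZ ▸ h.mul_left _)
  -- `k` is an algebraic integer
  obtain ⟨χ, hχ⟩ : ((blk M G).erase (Char.trivialChar G)).Nonempty := by
    rw [Finset.nonempty_iff_ne_empty]
    intro h
    exact hFodd (by rw [hF, h]; simp)
  have hkint : IsIntegral ℤ (conj k) := by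
    rw [← hgap χ (mem_blk.1 (Finset.mem_erase.1 hχ).2) (Finset.mem_erase.1 hχ).1, map_sub,
      conj_degree, Char.IsCharacter.conj_apply (Char.irr_isCharacter χ)]
    exact (CharInt.isIntegral_char (Char.irr_isCharacter χ) 1).sub
      (CharInt.isIntegral_char (Char.irr_isCharacter χ) _)
  have hZ0' : Z ≠ 0 := fun h => hZodd (h ▸ dvd_zero 2)
  obtain ⟨c, hc⟩ := Char.exists_int_of_isIntegral_mul hkint hZ0'
    (N := (q : ℤ)) (by push_cast; rw [mul_comm]; exact hkZ)
  have hcZ : c * Z = (q : ℤ) := by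
    rw [hc] at hkZ
    exact_mod_cast hkZ
  have hZ1 : Z = 1 := by
    have hdvd : Z.natAbs ∣ 2 ^ (Nat.card G).factorization 2 := by
      have : Z ∣ (q : ℤ) := Dvd.intro_left c hcZ
      exact Int.natAbs_dvd_natAbs.2 this |>.trans (by simp [hqdef, twoPart])
    obtain ⟨i, -, hi⟩ := (Nat.dvd_prime_pow Nat.prime_two).1 hdvd
    rcases Nat.eq_zero_or_pos i with rfl | hi0
    · rw [pow_zero] at hi
      rcases Int.natAbs_eq_iff.1 hi with h | h
      · simpa using h
      · exfalso
        have hFnn : 0 ≤ F := Finset.sum_nonneg fun χ _ => by positivity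
        rw [hFDZ, show Z = -1 by simpa using h] at hFnn
        have hD0 : (D : ℤ) = 0 := by omega
        exact hFodd (by rw [hFDZ, hD0]; simp)
    · refine absurd ?_ hZodd
      show ((2 : ℕ) : ℤ) ∣ Z
      rw [Int.natCast_dvd, hi]
      exact dvd_pow_self 2 hi0.ne'
  rw [hZ1, Int.cast_one, mul_one] at hkZ
  have := congrArg conj hkZ
  rwa [Complex.conj_conj, map_natCast] at this

end Cfsg.Agent.DegreeGap
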