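import Cfsg.Agent.Lib.DegreeGap.Basic
import Cfsg.Agent.Lib.Blocks.PPrimeNormal
import Cfsg.Agent.Lib.PSL2.Classes
import Cfsg.Agent.Lib.PCore.Basic
import Cfsg.Agent.S2300
import Cfsg.Agent.S2321
import Cfsg.Agent.S2323

/-!
# The groups with constant difference
-/

set_option autoImplicit false
set_option linter.style.haveILetI false
set_option linter.unusedSectionVars false

namespace Cfsg.Agent.DegreeGap

open Cfsg Cfsg.Agent Cfsg.Agent.Blocks
open scoped MatrixGroups

universe u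

variable {G : Type u} [Group G] [Fintype G] [Fact (Nat.Prime 2)]
variable {M : Ideal AlgInt} [M.IsMaximal] (hpM : ((2 : ℕ) : AlgInt) ∈ M)
include hpM

theorem principal_apply_core {χ : IrrCharacter G} (hχ : χ ∈ principalBlock M G) {n : G}
    (hn : n ∈ oddCore G) : χ.1 n = χ.1 1 := by
  have h2 : ¬ 2 ∣ Nat.card (oddCore G) := fun h =>
    Nat.not_even_iff_odd.2 PCore.odd_card_oddCore (even_iff_two_dvd.2 h)
  exact mem_blockKerSubgroup.1 (le_blockKer hpM (isPBlock_principalBlock hpM)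
    trivial_mem_principalBlock h2 (fun _ _ => rfl) hn) χ hχ

/-- Characters of the principal block come from the quotient by the odd core. -/
theorem exists_descend_principal {χ : IrrCharacter G} (hχ : χ ∈ principalBlock M G)
    (hne : χ ≠ Char.trivialChar G) :
    ∃ ψ : IrrCharacter (G ⧸ oddCore G), ψ ≠ Char.trivialChar (G ⧸ oddCore G) ∧
      ∀ g : G, ψ.1 (g : G ⧸ oddCore G) = χ.1 g := by
  obtain ⟨ψ, hψ⟩ := Char.exists_descend (oddCore G) χ fun g hg => principal_apply_core hpM hχ hg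
  refine ⟨ψ, fun e => hne (Subtype.ext (funext fun g => ?_)), hψ⟩
  rw [← hψ g, e]
  rfl

theorem gap_of_mem {u : G} (hu : u ∈ oddCore G) : Gap M u 0 := fun χ hχ _ => by
  rw [principal_apply_core hpM hχ hu, sub_self]

theorem gap_of_index_two {u : G} (h2 : Nat.card (G ⧸ oddCore G) = 2) (hu : u ∉ oddCore G) :
    Gap M u 2 := by
  intro χ hχ hne
  obtain ⟨ψ, hψne, hψ⟩ := exists_descend_principal hpM hχ hne
  rw [← hψ 1, ← hψ u]
  haveI : Fact (Nat.Prime 2) := inferInstance
  haveI : IsCyclic (G ⧸ oddCore G) := isCyclic_of_prime_card h2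
  have hcomm : ∀ a b : G ⧸ oddCore G, a * b = b * a := fun a b => by
    obtain ⟨g, hg⟩ := IsCyclic.exists_generator (α := G ⧸ oddCore G)
    obtain ⟨i, rfl⟩ := hg a
    obtain ⟨j, rfl⟩ := hg b
    exact ((Commute.refl g).zpow_zpow i j).eq
  have h1 : ψ.1 1 = 1 := Char.apply_one_of_comm hcomm ψ
  obtain ⟨lam, hlam⟩ := Char.IsCharacter.exists_monoidHom (Char.irr_isCharacter ψ) h1
  have hu1 : (u : G ⧸ oddCore G) ≠ 1 := fun h => hu ((QuotientGroup.eq_one_iff u).1 h)
  have hgen : ∀ x : G ⧸ oddCore G, x = 1 ∨ x = (u : G ⧸ oddCore G) := by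
    intro x
    obtain ⟨y, hy⟩ := (Nat.card_eq_two_iff' (1 : G ⧸ oddCore G)).1 h2
    by_cases hx : x = 1
    · exact Or.inl hx
    · exact Or.inr ((hy.2 x hx).trans (hy.2 _ hu1).symm)
  have hsq : lam (u : G ⧸ oddCore G) ^ 2 = 1 := by
    rw [← map_pow, show (u : G ⧸ oddCore G) ^ 2 = 1 by
      have := pow_card_eq_one' (x := (u : G ⧸ oddCore G))
      rwa [h2] at this, map_one]
  have hne1 : lam (u : G ⧸ oddCore G) ≠ 1 := fun h => hψne (Subtype.ext (funext fun x => by
    rw [← hlam]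
    rcases hgen x with rfl | rfl
    · simp
    · rw [h]; rfl))
  rw [← hlam, QuotientGroup.mk_one, map_one,
    (sq_eq_one_iff.1 hsq).resolve_left hne1]
  norm_num

theorem gap_of_psl {u : G} {F : Type} [Field F] [Fintype F] {n : ℕ} (hn : 2 ≤ n)
    (hF : Fintype.card F = 2 ^ n)
    (e : G ⧸ oddCore G ≃* Matrix.ProjectiveSpecialLinearGroup (Fin 2) F)
    (hu : u ∉ oddCore G) (hu2 : u ^ 2 ∈ oddCore G) : Gap M u (Fintype.card F : ℂ) := by
  classical
  have h20 : (2 : F) = 0 := by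
    have h := FiniteField.cast_card_eq_zero F
    rw [hF, Nat.cast_pow, Nat.cast_two] at h
    exact eq_zero_of_pow_eq_zero h
  haveI : CharP F 2 := (CharP.charP_iff_prime_eq_zero Nat.prime_two).2 (by simpa using h20)
  have hq4 : 4 ≤ Fintype.card F := hF ▸ le_trans (by norm_num) (Nat.pow_le_pow_right two_pos hn)
  intro χ hχ hne
  obtain ⟨ψ, hψne, hψ⟩ := exists_descend_principal hpM hχ hne
  rw [← hψ 1, ← hψ u, QuotientGroup.mk_one]
  let f : SL(2, F) →* G ⧸ oddCore G := e.symm.toMonoidHom.comp PSL2.mk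
  have hf : Function.Surjective f := e.symm.surjective.comp QuotientGroup.mk_surjective
  let η : IrrCharacter SL(2, F) :=
    ⟨fun x => ψ.1 (f x), Char.IsIrrCharacter.comp_surjective ψ.2 f hf⟩
  have hη1 : η.1 1 = ψ.1 1 := congrArg ψ.1 (map_one f)
  have hηu : η.1 (PSL2.uu 1) = ψ.1 (u : G ⧸ oddCore G) := by
    have hbar : orderOf (u : G ⧸ oddCore G) = 2 := orderOf_eq_prime
      (by rw [← QuotientGroup.mk_pow]; exact (QuotientGroup.eq_one_iff _).2 hu2)
      fun h => hu ((QuotientGroup.eq_one_iff u).1 h)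
    have huu : orderOf (PSL2.mk (PSL2.uu (1 : F))) = 2 := orderOf_eq_prime
      (by rw [← map_pow, PSL2.uu_pow, Nat.cast_two, h20, zero_mul, PSL2.uu_zero, map_one])
      fun h => by
        rcases PSL2.mk_eq_one.1 h with h | h
        · exact one_ne_zero (PSL2.uu_eq_one_iff.1 h)
        · have h01 := congrArg (fun g : SL(2, F) => g 0 1) h
          simp at h01
    obtain ⟨c, hc⟩ := isConj_iff.1 (PSL2.psl_involutions_isConj huu
      ((MulEquiv.orderOf_eq e _).trans hbar))
    refine (Char.IsClassFunction.apply_of_isConj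
      (Char.IsCharacter.isClassFunction (Char.irr_isCharacter ψ)) (isConj_iff.2 ⟨e.symm c, ?_⟩))
    rw [← e.symm_apply_apply (u : G ⧸ oddCore G), ← hc, map_mul, map_mul, map_inv]
    rfl
  have hd := (S2300.result (F := F)).1 η.1 η.2
  rcases hd with h | h | h | h
  · exfalso
    obtain ⟨hsub, -⟩ := Nat.card_eq_one_iff_unique.1 ((S2300.result (F := F)).2 hq4).1
    refine hψne (Subtype.ext (funext fun x => ?_))
    have h3 := @Subsingleton.elim _ hsub ⟨η, h⟩ ⟨Char.trivialChar SL(2, F), rfl⟩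
    obtain ⟨y, rfl⟩ := hf x
    exact congrFun (congrArg Subtype.val (congrArg Subtype.val h3)) y
  · have h2 := (S2323.result hq4 η.1 η.2 (PSL2.uu 1) rfl).2 h
    rw [← hη1, ← hηu, h, h2]
    ring
  · have h2 := (S2321.result η.1 η.2 h (PSL2.uu 1)).2.2 rfl rfl one_ne_zero
    rw [← hη1, ← hηu, h, h2]
    ring
  · have h2 := (S2323.result hq4 η.1 η.2 (PSL2.uu 1) rfl).1 h
    rw [← hη1, ← hηu, h, h2]
    ring

end Cfsg.Agent.DegreeGap
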