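import Cfsg.Agent.Lib.DegreeGap.Final
import Cfsg.Agent.Lib.BlocksX.Quotient
import Cfsg.Agent.S0948
import Mathlib.GroupTheory.Transfer

/-!
# Sylow 2-subgroups of order 8

Here the automizer inside `C(s)` might act fixed point freely on `P / ⟨s⟩`.  Counting excludes this.
-/

set_option autoImplicit false
set_option linter.style.haveILetI false
set_option linter.unusedSectionVars false

namespace Cfsg.Agent.DegreeGap

open Cfsg Cfsg.Agent Cfsg.Agent.Blocks
open scoped Pointwise ComplexConjugate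

universe u

variable {G : Type u} [Group G] [Fintype G] [Fact (Nat.Prime 2)]

section Upper

variable {M : Ideal AlgInt} [M.IsMaximal] {u s : G} (D : Data M u s)
  (hpM : ((2 : ℕ) : AlgInt) ∈ M)

/-- The regular elements as a finset. -/
noncomputable def regs (G : Type u) [Group G] [Fintype G] : Finset G :=
  open Classical in Finset.univ.filter (fun g : G => IsPRegular 2 g)

theorem exists_regs_int (χ : IrrCharacter G) : ∃ z : ℤ,
    (twoPart G : ℂ) * (Nat.card G : ℂ)⁻¹ * ∑ g ∈ regs G, χ.1 g = (z : ℂ) := by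
  classical
  obtain ⟨a, b, ha, hb, hab⟩ := S0961.result 2 χ
  obtain ⟨na, hna⟩ := BlocksX.Klein.classInner_eq_nat ha
  obtain ⟨nb, hnb⟩ := BlocksX.Klein.classInner_eq_nat hb
  refine ⟨(na : ℤ) - nb, ?_⟩
  push_cast
  rw [← hna, ← hnb, ← mul_sub, ← Finset.sum_sub_distrib, mul_comm (twoPart G : ℂ), mul_assoc,
    Finset.mul_sum, regs, Finset.sum_filter]
  refine congrArg _ (Finset.sum_congr rfl fun g _ => ?_)
  rw [← Pi.sub_apply, ← hab]
  simp only [IsPRegular, twoPart]
  split_ifs <;> simp_all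

include D hpM

theorem Data.sum_sq_lt (h8 : twoPart G = 8) (T : ℕ)
    (hT : (T : ℂ) = ∑ χ ∈ blk M G, χ.1 s * conj (χ.1 s)) : T < 88 := by
  classical
  obtain ⟨P, hsP⟩ := D.exists_sylow
  choose Z hZ using exists_regs_int (G := G)
  set n := Nat.card G with hn
  set R := (regs G).card with hR
  have hn0 : (n : ℂ) ≠ 0 := Nat.cast_ne_zero.2 Nat.card_pos.ne'
  have hZsum : ∀ χ, (n : ℂ) * (Z χ : ℂ) = 8 * ∑ g ∈ regs G, χ.1 g := by
    intro χ
    rw [← hZ χ, h8, Nat.cast_ofNat]
    field_simp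
  have hZT : (n : ℂ) * (Z (Char.trivialChar G) : ℂ) = 8 * (R : ℂ) := by
    rw [hZsum]
    simp [hR]
  -- Bessel
  have hbessel : ∑ χ : IrrCharacter G, (Z χ) ^ 2 = 8 * Z (Char.trivialChar G) := by
    set f : G → ℂ := fun g => if IsPRegular 2 g then 1 else 0 with hf
    have hfc : IsClassFunction G f := fun a b => by
      simp only [hf]
      exact if_congr (isPRegular_conj b) rfl rfl
    have h1 : ∀ χ : IrrCharacter G, classInner χ.1 f = (Z χ : ℂ) / 8 := fun χ => by
      simp only [classInner, hf, apply_ite (starRingEnd ℂ), map_one, map_zero, mul_ite, mul_one,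
        mul_zero]
      rw [← Finset.sum_filter]
      rw [eq_div_iff (by norm_num : (8 : ℂ) ≠ 0)]
      have := hZsum χ
      unfold regs at this
      rw [← hn]
      field_simp
      linear_combination -this
    have h2 : ∀ χ : IrrCharacter G, classInner f χ.1 = (Z χ : ℂ) / 8 := fun χ => by
      rw [← Char.conj_classInner, h1, map_div₀, map_intCast, map_ofNat]
    have h3 : classInner f f = (Z (Char.trivialChar G) : ℂ) / 8 := by
      rw [← h1]
      simp only [classInner, hf]
      refine congrArg _ (Finset.sum_congr rfl fun g _ => ?_)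
      split_ifs <;> simp
    have h4 := Char.classInner_eq_sum (f' := f) hfc
    simp only [h1, h2, h3] at h4
    have h5 : ((∑ χ : IrrCharacter G, (Z χ) ^ 2 : ℤ) : ℂ) =
        ((8 * Z (Char.trivialChar G) : ℤ) : ℂ) := by
      push_cast
      have h6 : ∑ χ : IrrCharacter G, ((Z χ : ℂ) / 8 * ((Z χ : ℂ) / 8)) =
          (∑ χ : IrrCharacter G, (Z χ : ℂ) ^ 2) / 64 := by
        rw [Finset.sum_div]
        exact Finset.sum_congr rfl fun χ _ => by ring
      rw [h6] at h4
      linear_combination -64 * h4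
    exact_mod_cast h5
  set E := (blk M G).erase (Char.trivialChar G) with hE
  set j : IrrCharacter G → ℤ := fun χ => (Char.degree χ : ℤ) - 8 with hj
  have hjs : ∀ χ ∈ E, χ.1 s = (j χ : ℂ) := fun χ hχ => by
    obtain ⟨hne, hmem⟩ := Finset.mem_erase.1 hχ
    rw [D.apply_s hpM (mem_blk.1 hmem) hne, h8, Char.apply_one_eq_degree]
    simp [hj]
  have hjlow : ∀ χ ∈ E, -1 ≤ j χ := fun χ hχ => by
    obtain ⟨hne, hmem⟩ := Finset.mem_erase.1 hχ
    have := D.le_degree hpM (mem_blk.1 hmem) hne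
    simp only [hj]
    omega
  have hTj : (T : ℤ) = 1 + ∑ χ ∈ E, (j χ) ^ 2 := by
    have h1 : ((T : ℤ) : ℂ) = ((1 + ∑ χ ∈ E, (j χ) ^ 2 : ℤ) : ℂ) := by
      push_cast
      rw [hT, sum_blk_split]
      simp only [Char.trivialChar_apply, map_one, mul_one]
      refine congrArg _ (Finset.sum_congr rfl fun χ hχ => ?_)
      rw [hjs χ hχ, map_intCast, pow_two]
    exact_mod_cast h1
  have hlin : 1 + ∑ χ ∈ E, (8 + j χ) * j χ = 0 := by
    have h1 := sum_deg_singular hpM D.singular_s
    rw [sum_blk_split] at h1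
    simp only [Char.trivialChar_apply, mul_one] at h1
    have h2 : ((1 + ∑ χ ∈ E, (8 + j χ) * j χ : ℤ) : ℂ) = 0 := by
      rw [← h1]
      push_cast
      refine congrArg _ (Finset.sum_congr rfl fun χ hχ => ?_)
      rw [hjs χ hχ, Char.apply_one_eq_degree]
      simp [hj]
    exact_mod_cast h2
  simp only [add_mul, Finset.sum_add_distrib, ← Finset.mul_sum, ← pow_two] at hlin
  -- the characters with `j = -1`
  set A := E.filter (fun χ => j χ < 0) with hA
  have hodd : ∀ χ ∈ A, 1 ≤ (Z χ) ^ 2 := by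
    intro χ hχ
    obtain ⟨hχE, hneg⟩ := Finset.mem_filter.1 hχ
    obtain ⟨hne, hmem⟩ := Finset.mem_erase.1 hχE
    suffices h : Z χ ≠ 0 by nlinarith [mul_self_pos.2 h]
    intro h0
    have hsum0 : ∑ g ∈ regs G, χ.1 g = 0 := by
      have := hZsum χ
      rw [h0, Int.cast_zero, mul_zero] at this
      exact (mul_eq_zero.1 this.symm).resolve_left (by norm_num)
    refine (omega_regSum_unit_iff (p := 2) hpM).2 (mem_blk.1 hmem) ?_
    rw [omega, chiL_eq_sum]
    simp only [coeff_regSum, ite_mul, one_mul, zero_mul]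
    rw [← Finset.sum_filter]
    unfold regs at hsum0
    rw [hsum0, zero_div]
    exact memLocalIdeal_zero
  have hAcard : (A.card : ℤ) ≤ 16 := by
    have h1 : (A.card : ℤ) ≤ ∑ χ ∈ A, (Z χ) ^ 2 := by
      rw [Finset.card_eq_sum_ones, Nat.cast_sum]
      exact Finset.sum_le_sum fun χ hχ => by simpa using hodd χ hχ
    have h2 : ∑ χ ∈ A, (Z χ) ^ 2 ≤
        ∑ χ ∈ Finset.univ.erase (Char.trivialChar G), (Z χ) ^ 2 :=
      Finset.sum_le_sum_of_subset_of_nonneg (fun χ hχ => Finset.mem_erase.2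
        ⟨(Finset.mem_erase.1 (Finset.mem_filter.1 hχ).1).1, Finset.mem_univ _⟩)
        fun _ _ _ => sq_nonneg _
    have h3 := Finset.add_sum_erase Finset.univ (fun χ => (Z χ) ^ 2)
      (Finset.mem_univ (Char.trivialChar G))
    simp only [hbessel] at h3
    nlinarith [sq_nonneg (Z (Char.trivialChar G) - 4)]
  set B := E.filter (fun χ => ¬ j χ < 0) with hB
  have hjA : ∀ χ ∈ A, j χ = -1 := fun χ hχ => by
    obtain ⟨hχE, hneg⟩ := Finset.mem_filter.1 hχ
    have := hjlow χ hχE
    omega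
  have hsum1 : ∑ χ ∈ E, j χ = -(A.card : ℤ) + ∑ χ ∈ B, j χ := by
    rw [← Finset.sum_filter_add_sum_filter_not E (fun χ => j χ < 0), ← hA, ← hB,
      Finset.sum_congr rfl hjA]
    simp
  have hsum2 : ∑ χ ∈ E, (j χ) ^ 2 = (A.card : ℤ) + ∑ χ ∈ B, (j χ) ^ 2 := by
    rw [← Finset.sum_filter_add_sum_filter_not E (fun χ => j χ < 0), ← hA, ← hB,
      Finset.sum_congr rfl (fun χ hχ => by rw [hjA χ hχ] : ∀ χ ∈ A, (j χ) ^ 2 = (-1) ^ 2)]
    simp
  have hBnn : ∀ χ ∈ B, 0 ≤ j χ := fun χ hχ => by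
    have := (Finset.mem_filter.1 hχ).2
    omega
  have hBsq : ∑ χ ∈ B, (j χ) ^ 2 ≤ (∑ χ ∈ B, j χ) ^ 2 :=
    Finset.sum_sq_le_sq_sum_of_nonneg hBnn
  have hB0 := Finset.sum_nonneg hBnn
  by_contra hge
  have hge' : (88 : ℤ) ≤ T := by exact_mod_cast not_lt.1 hge
  have hb5 : ∑ χ ∈ B, j χ ≤ 5 := by nlinarith
  nlinarith

end Upper

section Lower

variable {X : Type u} [Group X] [Fintype X]
variable {M : Ideal AlgInt} [M.IsMaximal]

theorem root_eq_one (hpM : ((2 : ℕ) : AlgInt) ∈ M) {ζ : ℂ} {m : ℕ} (hm : Odd m)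
    (hint : MemLocalRing M ζ) (h : MemLocalIdeal M (ζ - 1)) (hζ : ζ ^ m = 1) : ζ = 1 := by
  by_contra hne
  have hsum : ∑ i ∈ Finset.range m, ζ ^ i = 0 := by
    rw [geom_sum_eq hne, hζ, sub_self, zero_div]
  haveI := charP_residue (p := 2) hpM
  have hr : red M ζ = 1 := by
    rw [← red_one (M := M), red_eq_iff hint memLocalRing_one]
    exact h
  have h1 := congrArg (red M) hsum
  rw [red_sum _ fun i _ => MemLocalRing.pow hint i, red_zero] at h1
  simp only [red_pow hint, hr, one_pow, Finset.sum_const, Finset.card_range, nsmul_eq_mul,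
    mul_one] at h1
  rw [CharP.cast_eq_zero_iff (AlgInt ⧸ M) 2] at h1
  exact Nat.not_even_iff_odd.2 hm (even_iff_two_dvd.2 h1)

/-- Twisting by a sign character preserves the block. -/
theorem mem_blk_sign (hpM : ((2 : ℕ) : AlgInt) ∈ M) (ν : X →* ℂ) (hν : ∀ g, ν g = 1 ∨ ν g = -1)
    {θ : IrrCharacter X} (hθ : θ ∈ principalBlock M X) :
    (⟨⇑ν * θ.1, Char.IsIrrCharacter.mul_linear θ.2 ν⟩ : IrrCharacter X) ∈ principalBlock M X := by
  intro g
  have h1 := hθ g
  show MemLocalIdeal M (centralChar (fun _ : X => (1 : ℂ)) g - centralChar (⇑ν * θ.1) g)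
  have e : centralChar (⇑ν * θ.1) g = ν g * centralChar θ.1 g := by
    simp only [centralChar, Pi.mul_apply, map_one, one_mul]
    ring
  rw [e]
  rcases hν g with h | h
  · rwa [h, one_mul]
  · rw [h, show centralChar (fun _ : X => (1 : ℂ)) g - -1 * centralChar θ.1 g =
      (centralChar (fun _ : X => (1 : ℂ)) g - centralChar θ.1 g) +
        ((2 : ℕ) : ℂ) * centralChar θ.1 g by push_cast; ring]
    exact MemLocalIdeal.add h1 (MemLocalIdeal.mul_right ((memLocalIdeal_natCast_iff hpM 2).2 dvd_rfl)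
      (memLocalRing_centralChar θ g))

/-- A sign character that is `-1` at a central involution of the Sylow subgroup. -/
theorem exists_sign (P : Sylow 2 X) (hE : Elem P) {z : X} (hzP : z ∈ (P : Subgroup X))
    (hz1 : z ≠ 1) (hzc : ∀ g : X, g * z = z * g) :
    ∃ ν : X →* ℂ, (∀ g, ν g = 1 ∨ ν g = -1) ∧ ν z = -1 := by
  classical
  haveI := Fintype.ofFinite (P : Subgroup X)
  obtain ⟨ψ, hψ⟩ : ∃ ψ : IrrCharacter (P : Subgroup X), ψ.1 ⟨z, hzP⟩ ≠ ψ.1 1 := by
    by_contra h
    push Not at h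
    obtain ⟨c, hc⟩ := isConj_iff.1 ((Char.isConj_iff_forall_irr (⟨z, hzP⟩ : (P : Subgroup X)) 1).2 h)
    refine hz1 (congrArg Subtype.val (?_ : (⟨z, hzP⟩ : (P : Subgroup X)) = 1))
    exact conj_eq_one_iff.1 hc
  have h1 : ψ.1 1 = 1 := Char.apply_one_of_comm (fun a b => Subtype.ext (hE.comm a a.2 b b.2)) ψ
  obtain ⟨lam, hlam⟩ := Char.IsCharacter.exists_monoidHom (Char.irr_isCharacter ψ) h1
  have hsq : ∀ v, lam.toHomUnits v ∈ rootsOfUnity 2 ℂ := fun v => by
    rw [mem_rootsOfUnity, ← map_pow, pow_two, show v * v = 1 from Subtype.ext (hE.sq v v.2), map_one]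
  let φ : (P : Subgroup X) →* rootsOfUnity 2 ℂ := lam.toHomUnits.codRestrict _ hsq
  let V : X →* rootsOfUnity 2 ℂ := MonoidHom.transfer φ
  refine ⟨(Units.coeHom ℂ).comp ((rootsOfUnity 2 ℂ).subtype.comp V), fun g => ?_, ?_⟩
  · have h := (mem_rootsOfUnity _ _).1 (V g).2
    have h2 : (((V g : ℂˣ)) : ℂ) ^ 2 = 1 := by
      rw [← Units.val_pow_eq_pow_val, h, Units.val_one]
    exact sq_eq_one_iff.1 h2
  · have hV : V z = φ ⟨z ^ (P : Subgroup X).index, pow_mem hzP _⟩ :=
      MonoidHom.transfer_eq_pow φ z fun k g₀ _ => by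
        have hc : Commute g₀ (z ^ k) := (show Commute g₀ z from hzc g₀).pow_right k
        rw [mul_assoc, ← hc.eq, inv_mul_cancel_left]
    obtain ⟨m, hm⟩ : Odd (P : Subgroup X).index :=
      Nat.not_even_iff_odd.1 fun he => P.not_dvd_index (even_iff_two_dvd.1 he)
    have hpow : (⟨z ^ (P : Subgroup X).index, pow_mem hzP _⟩ : (P : Subgroup X)) = ⟨z, hzP⟩ :=
      Subtype.ext (show z ^ (P : Subgroup X).index = z by
        rw [hm, pow_succ, pow_mul, pow_two, hE.sq z hzP, one_pow, one_mul])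
    show (((V z : ℂˣ)) : ℂ) = -1
    rw [hV, hpow]
    show lam ⟨z, hzP⟩ = -1
    refine (sq_eq_one_iff.1 ?_).resolve_left fun h => hψ ?_
    · rw [← map_pow, pow_two, show (⟨z, hzP⟩ : (P : Subgroup X)) * ⟨z, hzP⟩ = 1 from
        Subtype.ext (hE.sq z hzP), map_one]
    · rw [← hlam, h, map_one]

set_option maxHeartbeats 1000000 in
theorem klein_lower (hM : IsPModular 2 M) (hpM : ((2 : ℕ) : AlgInt) ∈ M) (P : Sylow 2 X)
    (hE : Elem P) (h8 : Nat.card (P : Subgroup X) = 8) {z : X} (hz : orderOf z = 2)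
    (hzP : z ∈ (P : Subgroup X)) (hzc : ∀ g : X, g * z = z * g) {g : X}
    (hgN : g ∈ Subgroup.normalizer ((P : Subgroup X) : Set X))
    (hgC : g ∉ Subgroup.centralizer ((P : Subgroup X) : Set X))
    (hodd : Odd ((Subgroup.centralizer ((P : Subgroup X) : Set X)).relIndex
      (Subgroup.normalizer ((P : Subgroup X) : Set X))))
    (hlin : ∀ L : Subgroup X, L.Normal → Odd L.index →
      Subgroup.centralizer ((P : Subgroup X) : Set X) ≤ L → L = ⊤) :
    88 ≤ ∑ θ ∈ blk M X, Char.degree θ ^ 2 := by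
  classical
  have hz1 : z ≠ 1 := fun h => by
    rw [h, orderOf_one] at hz
    omega
  obtain ⟨ν, hν, hνz⟩ := exists_sign P hE hzP hz1 hzc
  set Z := Subgroup.zpowers z with hZdef
  haveI hZn : Z.Normal := ⟨fun a ha k => by
    obtain ⟨i, rfl⟩ := ha
    have : Commute k (z ^ i) := (show Commute k z from hzc k).zpow_right i
    rw [this.eq, mul_inv_cancel_right]; exact ⟨i, rfl⟩⟩
  have hZP : Z ≤ (P : Subgroup X) := Subgroup.zpowers_le.2 hzP
  set π := QuotientGroup.mk' Z with hπ
  have hπs : Function.Surjective π := QuotientGroup.mk'_surjective Z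
  haveI := Fintype.ofFinite (X ⧸ Z)
  let Q : Sylow 2 (X ⧸ Z) := P.mapSurjective hπs
  have hQ : (Q : Subgroup (X ⧸ Z)) = (P : Subgroup X).map π := Sylow.coe_mapSurjective hπs P
  have hQsq : ∀ c ∈ (Q : Subgroup (X ⧸ Z)), c * c = 1 := by
    rw [hQ]
    rintro _ ⟨v, hv, rfl⟩
    rw [← map_mul, hE.sq v hv, map_one]
  have hQcard : Nat.card (Q : Subgroup (X ⧸ Z)) = 4 := by
    have h3 : (Z.subgroupOf (P : Subgroup X)) = (π.domRestrict (P : Subgroup X)).ker := by
      ext x
      rw [MonoidHom.mem_ker, MonoidHom.domRestrict_apply, Subgroup.mem_subgroupOf]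
      exact (QuotientGroup.eq_one_iff _).symm
    have h4 := Subgroup.card_mul_index (Z.subgroupOf (P : Subgroup X))
    rw [Nat.card_congr (Subgroup.subgroupOfEquivOfLe hZP).toEquiv, hZdef, Nat.card_zpowers, hz,
      h8] at h4
    rw [hQ, ← MonoidHom.domRestrict_range, ← Subgroup.index_ker, ← h3]
    rw [← hZdef] at h4
    omega
  have hklein : IsKleinFour (Q : Subgroup (X ⧸ Z)) := by
    haveI : Nontrivial (Q : Subgroup (X ⧸ Z)) :=
      Finite.one_lt_card_iff_nontrivial.1 (by omega)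
    refine ⟨hQcard, (Monoid.exponent_eq_prime_iff Nat.prime_two).2 fun v hv => ?_⟩
    exact orderOf_eq_prime (by rw [pow_two]; exact Subtype.ext (hQsq v v.2)) hv
  -- `g` permutes the three involutions of `Q` transitively
  have hstab : ∀ k ∈ Subgroup.normalizer ((P : Subgroup X) : Set X), ∀ x ∈ (P : Subgroup X),
      π (k * x * k⁻¹) = π x → k * x * k⁻¹ = x := by
    intro k hk x hx he
    set d := k * x * k⁻¹ * x⁻¹ with hd
    have hdZ : d ∈ Z := (QuotientGroup.eq_one_iff d).1 (by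
      show π d = 1
      rw [hd, map_mul, he, map_inv, mul_inv_cancel])
    have hd2 : d * d = 1 := hE.sq d (hZP hdZ)
    have hkd : Commute k d := by
      obtain ⟨i, hi⟩ := hdZ
      rw [← hi]
      exact (show Commute k z from hzc k).zpow_right i
    have hkx : k * x * k⁻¹ = d * x := by rw [hd, inv_mul_cancel_right]
    have hpow : ∀ i : ℕ, k ^ i * x * (k ^ i)⁻¹ = d ^ i * x := by
      intro i
      induction i with
      | zero => simp
      | succ i ih =>
        calc k ^ (i + 1) * x * (k ^ (i + 1))⁻¹ = k * (k ^ i * x * (k ^ i)⁻¹) * k⁻¹ := by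
              rw [pow_succ']; group
          _ = k * d ^ i * x * k⁻¹ := by rw [ih]; group
          _ = d ^ i * (k * x * k⁻¹) := by rw [(hkd.pow_right i).eq]; group
          _ = d ^ (i + 1) * x := by rw [hkx, pow_succ]; group
    set C := Subgroup.centralizer ((P : Subgroup X) : Set X) with hC
    have hm : k ^ C.relIndex (Subgroup.normalizer ((P : Subgroup X) : Set X)) ∈ C :=
      Subgroup.pow_index_mem (C.subgroupOf (Subgroup.normalizer ((P : Subgroup X) : Set X))) ⟨k, hk⟩
    have h4 := hpow (C.relIndex (Subgroup.normalizer ((P : Subgroup X) : Set X)))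
    rw [← Subgroup.mem_centralizer_iff.1 hm x hx, mul_inv_cancel_right] at h4
    have h5 : d ^ C.relIndex (Subgroup.normalizer ((P : Subgroup X) : Set X)) = 1 :=
      (mul_eq_right.1 h4.symm)
    rw [hkx, eq_one_of_orderOf hodd h5 hd2, one_mul]
  obtain ⟨x, hx, hgx⟩ : ∃ x ∈ (P : Subgroup X), g * x * g⁻¹ ≠ x := by
    by_contra h
    push Not at h
    exact hgC (Subgroup.mem_centralizer_iff.2 fun y hy =>
      (mul_inv_eq_iff_eq_mul.1 (h y hy)).symm)
  have hgg : g * g ∈ Subgroup.normalizer ((P : Subgroup X) : Set X) := mul_mem hgN hgN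
  set a := π x with ha
  set b := π g * a * (π g)⁻¹ with hb
  set c := π g * b * (π g)⁻¹ with hc
  have hab : b ≠ a := fun h => hgx (hstab g hgN x hx (by
    rw [map_mul, map_mul, map_inv]; exact h))
  have hca : c ≠ a := fun h => by
    have h2 : g * g * x * (g * g)⁻¹ = x := hstab _ hgg x hx (by
      rw [map_mul, map_mul, map_inv, map_mul, ← ha]
      exact (show π g * π g * a * (π g * π g)⁻¹ = c by rw [hc, hb]; group).trans h)
    obtain ⟨m, hm⟩ := hodd
    set C := Subgroup.centralizer ((P : Subgroup X) : Set X) with hC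
    have hpm : g ^ (2 * m + 1) ∈ C := by
      rw [← hm]
      exact Subgroup.pow_index_mem
        (C.subgroupOf (Subgroup.normalizer ((P : Subgroup X) : Set X))) ⟨g, hgN⟩
    have hev : ∀ i : ℕ, (g * g) ^ i * x * ((g * g) ^ i)⁻¹ = x := fun i => by
      rw [(show Commute (g * g) x from mul_inv_eq_iff_eq_mul.1 h2).pow_left i,
        mul_inv_cancel_right]
    apply hgx
    have h3 := hev m
    rw [← pow_two, ← pow_mul] at h3
    calc g * x * g⁻¹ = g * (g ^ (2 * m) * x * (g ^ (2 * m))⁻¹) * g⁻¹ := by rw [h3]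
      _ = g ^ (2 * m + 1) * x * (g ^ (2 * m + 1))⁻¹ := by rw [pow_succ']; group
      _ = x := by rw [← Subgroup.mem_centralizer_iff.1 hpm x hx, mul_inv_cancel_right]
  have hcb : c ≠ b := fun h => hab (conj_injective (h.trans hb : π g * b * (π g)⁻¹ = _))
  have ha1 : a ≠ 1 := fun h => hab (by rw [hb, h, mul_one, mul_inv_cancel])
  have hmemQ : ∀ w, w ∈ (Q : Subgroup (X ⧸ Z)) → π g * w * (π g)⁻¹ ∈ (Q : Subgroup (X ⧸ Z)) := by
    rw [hQ]
    rintro _ ⟨v, hv, rfl⟩
    exact ⟨g * v * g⁻¹, (Subgroup.mem_normalizer_iff.1 hgN v).1 hv, by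
      rw [map_mul, map_mul, map_inv]⟩
  have haQ : a ∈ (Q : Subgroup (X ⧸ Z)) := hQ ▸ ⟨x, hx, rfl⟩
  have hbQ : b ∈ (Q : Subgroup (X ⧸ Z)) := hmemQ a haQ
  have hcQ : c ∈ (Q : Subgroup (X ⧸ Z)) := hmemQ b hbQ
  have hQconj : ∀ w ∈ (Q : Subgroup (X ⧸ Z)), w ≠ 1 → IsConj a w := by
    intro w hw hw1
    have hb1 : b ≠ 1 := fun h => ha1 (conj_eq_one_iff.1 h)
    have hc1 : c ≠ 1 := fun h => hb1 (conj_eq_one_iff.1 h)
    have hab' : IsConj a b := isConj_iff.2 ⟨π g, rfl⟩
    have hbc : IsConj b c := isConj_iff.2 ⟨π g, rfl⟩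
    have hset : ({1, a, b, c} : Finset (X ⧸ Z)) =
        Finset.univ.filter (fun v => v ∈ (Q : Subgroup (X ⧸ Z))) := by
      refine Finset.eq_of_subset_of_card_le (fun v hv => Finset.mem_filter.2 ⟨Finset.mem_univ _, ?_⟩) ?_
      · simp only [Finset.mem_insert, Finset.mem_singleton] at hv
        rcases hv with rfl | rfl | rfl | rfl
        exacts [one_mem _, haQ, hbQ, hcQ]
      · rw [← Fintype.card_subtype, ← Nat.card_eq_fintype_card]
        refine hQcard.le.trans (le_of_eq ?_)
        rw [Finset.card_insert_of_notMem, Finset.card_insert_of_notMem,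
          Finset.card_insert_of_notMem, Finset.card_singleton] <;>
          simp [ha1.symm, hb1.symm, hc1.symm, hab.symm, hca.symm, hcb.symm]
    have hwm : w ∈ ({1, a, b, c} : Finset (X ⧸ Z)) := hset ▸ Finset.mem_filter.2 ⟨Finset.mem_univ _, hw⟩
    simp only [Finset.mem_insert, Finset.mem_singleton] at hwm
    rcases hwm with rfl | rfl | rfl | rfl
    exacts [absurd rfl hw1, IsConj.refl _, hab', hab'.trans hbc]
  have hone : ∀ v w : X ⧸ Z, orderOf v = 2 → orderOf w = 2 → IsConj v w := by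
    have key : ∀ v : X ⧸ Z, orderOf v = 2 → IsConj a v := fun v hv => by
      obtain ⟨k, -, hk⟩ := exists_conj_mem Q (M := ⊤) le_top (Subgroup.mem_top v) hv
      exact (hQconj _ hk fun e => by
        rw [conj_eq_one_iff] at e
        rw [e, orderOf_one] at hv
        omega).trans (isConj_iff.2 ⟨k⁻¹, by group⟩)
    exact fun v w hv hw => (key v hv).symm.trans (key w hw)
  obtain ⟨ζ₂, ζ₃, ζ₄, ε, hε, h2ne, h3ne, h23, h24, h34, hblock, hval, hd2, hd3, hd4, hrel⟩ :=
    S0948.result M hM Q hklein hone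
  have ha2 : orderOf a = 2 := orderOf_eq_prime (by rw [pow_two]; exact hQsq a haQ) ha1
  have hTY : Char.trivialChar (X ⧸ Z) ∈ principalBlock M (X ⧸ Z) := trivial_mem_principalBlock
  have hmemY : ∀ ζ, ζ = Char.trivialChar (X ⧸ Z) ∨ ζ = ζ₂ ∨ ζ = ζ₃ ∨ ζ = ζ₄ →
      Char.inflate Z ζ ∈ principalBlock M X := by
    intro ζ hζ
    have hζB : ζ ∈ principalBlock M (X ⧸ Z) := by
      rw [hblock]
      rcases hζ with rfl | rfl | rfl | rfl
      · exact Or.inl rfl
      · exact Or.inr (Or.inl rfl)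
      · exact Or.inr (Or.inr (Or.inl rfl))
      · exact Or.inr (Or.inr (Or.inr rfl))
    exact BlocksX.sameBlock_inflate Z (χ := Char.trivialChar (X ⧸ Z)) hζB
  -- a linear member would give a proper subgroup
  have hnolin : ∀ ζ, ζ = ζ₂ ∨ ζ = ζ₃ → (∀ v, orderOf v = 2 → ζ.1 v = 1) →
      (ζ : X ⧸ Z → ℂ) ≠ (fun _ => 1) → Char.degree ζ ≠ 1 := by
    intro ζ hζ hv2 hne hd
    have h1 : ζ.1 1 = 1 := by rw [Char.apply_one_eq_degree, hd, Nat.cast_one]
    obtain ⟨lam, hlam⟩ := Char.IsCharacter.exists_monoidHom (Char.irr_isCharacter ζ) h1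
    set μ : X →* ℂ := lam.comp π with hμ
    have hμval : ∀ y, μ y = ζ.1 (π y) := fun y => congrFun hlam (π y)
    have hPker : (P : Subgroup X) ≤ μ.ker := fun v hv => by
      rw [MonoidHom.mem_ker, hμval]
      by_cases hv1 : π v = 1
      · rw [hv1, h1]
      · exact hv2 _ (orderOf_eq_prime (by rw [pow_two]; exact hQsq _ (hQ ▸ ⟨v, hv, rfl⟩)) hv1)
    have hμodd : Odd μ.ker.index := Nat.not_even_iff_odd.1 fun he => P.not_dvd_index
      ((even_iff_two_dvd.1 he).trans (Subgroup.index_dvd_of_le hPker))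
    have hblk : Char.inflate Z ζ ∈ principalBlock M X :=
      hmemY ζ (hζ.elim (fun h => Or.inr (Or.inl h)) (fun h => Or.inr (Or.inr (Or.inl h))))
    have htop := hlin μ.ker inferInstance hμodd fun k hk => by
      rw [MonoidHom.mem_ker]
      refine root_eq_one hpM hμodd (hμval k ▸ memLocalRing_irr ζ _) ?_ ?_
      · have hle : (P : Subgroup X) ≤ Subgroup.centralizer ({k} : Set X) := fun y hy =>
          Subgroup.mem_centralizer_singleton_iff.2 (Subgroup.mem_centralizer_iff.1 hk y hy)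
        have hodd' : ¬ 2 ∣ (Subgroup.centralizer ({k} : Set X)).index := fun h =>
          P.not_dvd_index (h.trans (Subgroup.index_dvd_of_le hle))
        have h2 : MemLocalIdeal M
            (((Subgroup.centralizer ({k} : Set X)).index : ℂ) * (μ k - 1)) := by
          have h := MemLocalIdeal.neg (hblk k)
          simp only [centralChar, Char.inflate_apply, QuotientGroup.mk_one, h1, mul_one,
            div_one] at h
          rw [hμval, show ((Subgroup.centralizer ({k} : Set X)).index : ℂ) * (ζ.1 (π k) - 1) =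
            -((((Subgroup.centralizer ({k} : Set X)).index : ℂ)) -
              ((Subgroup.centralizer ({k} : Set X)).index : ℂ) * ζ.1 (π k)) by ring]
          exact h
        exact (MemLocalIdeal.mem_or_mem (memLocalRing_natCast _)
          (MemLocalRing.sub (hμval k ▸ memLocalRing_irr ζ _) memLocalRing_one) h2).resolve_left
            fun h => hodd' ((memLocalIdeal_natCast_iff hpM _).1 h)
      · rw [← map_pow]
        exact Subgroup.pow_index_mem μ.ker k
    refine hne (funext fun y => ?_)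
    obtain ⟨y, rfl⟩ := hπs y
    rw [← hμval]
    exact MonoidHom.mem_ker.1 (htop ▸ Subgroup.mem_top y)
  -- degrees
  have hcd : ∀ ζ : IrrCharacter (X ⧸ Z), (charDegree ζ.1 : ℤ) = Char.degree ζ := fun ζ => by
    have e1 := Char.charDegree_cast ζ
    rw [Char.apply_one_eq_degree] at e1
    exact_mod_cast e1
  rw [hcd] at hd2 hd3 hd4
  have hr : (1 : ℤ) + Char.degree ζ₂ + ε * Char.degree ζ₃ - Char.degree ζ₄ = 0 := by
    have h := hrel 1 (by simp)
    rw [Char.apply_one_eq_degree, Char.apply_one_eq_degree, Char.apply_one_eq_degree] at h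
    exact_mod_cast h
  have hp2 := Char.degree_pos ζ₂
  have hp3 := Char.degree_pos ζ₃
  have hp4 := Char.degree_pos ζ₄
  have hn2 : Char.degree ζ₂ ≠ 1 := hnolin ζ₂ (Or.inl rfl) (fun v hv => (hval v hv).1) h2ne
  have h44 : 43 ≤ Char.degree ζ₂ ^ 2 + Char.degree ζ₃ ^ 2 + Char.degree ζ₄ ^ 2 := by
    rcases hε with rfl | rfl
    · have hn3 : Char.degree ζ₃ ≠ 1 := hnolin ζ₃ (Or.inr rfl) (fun v hv => by
        simpa using (hval v hv).2.1) h3ne
      have : 5 ≤ Char.degree ζ₂ := by omega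
      have : 11 ≤ Char.degree ζ₄ := by omega
      nlinarith
    · have : 5 ≤ Char.degree ζ₂ := by omega
      have : 3 ≤ Char.degree ζ₃ := by omega
      have : 3 ≤ Char.degree ζ₄ := by omega
      nlinarith
  -- eight members of the block
  set S : Finset (IrrCharacter (X ⧸ Z)) := {Char.trivialChar (X ⧸ Z), ζ₂, ζ₃, ζ₄} with hS
  let tw : IrrCharacter (X ⧸ Z) → IrrCharacter X := fun ζ =>
    ⟨⇑ν * (Char.inflate Z ζ).1, Char.IsIrrCharacter.mul_linear (Char.inflate Z ζ).2 ν⟩
  have hinf : Function.Injective (Char.inflate (G := X) Z) := fun p r h => Subtype.ext (funext fun y => by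
    obtain ⟨y, rfl⟩ := hπs y
    exact congrFun (congrArg Subtype.val h) y)
  have htw : Function.Injective tw := fun p r h => hinf (Subtype.ext (funext fun y =>
    mul_left_cancel₀ (hom_ne_zero ν y) (congrFun (congrArg Subtype.val h) y)))
  have hdisj : Disjoint (S.image (Char.inflate Z)) (S.image tw) := by
    rw [Finset.disjoint_left]
    intro θ h1 h2
    obtain ⟨p, -, rfl⟩ := Finset.mem_image.1 h1
    obtain ⟨r, -, hr⟩ := Finset.mem_image.1 h2
    have e1 := congrFun (congrArg Subtype.val hr) z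
    have e2 := congrFun (congrArg Subtype.val hr) 1
    have hz0 : (z : X ⧸ Z) = 1 := (QuotientGroup.eq_one_iff z).2 (Subgroup.mem_zpowers z)
    simp only [tw, Pi.mul_apply, Char.inflate_apply, hνz, hz0, QuotientGroup.mk_one, map_one,
      one_mul] at e1 e2
    rw [e2] at e1
    exact irr_one_ne_zero p (by linear_combination -(1/2 : ℂ) * e1)
  have hsub : S.image (Char.inflate Z) ∪ S.image tw ⊆ blk M X := by
    intro θ hθ
    rcases Finset.mem_union.1 hθ with h | h <;> obtain ⟨p, hp, rfl⟩ := Finset.mem_image.1 h <;>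
      simp only [hS, Finset.mem_insert, Finset.mem_singleton] at hp
    · exact mem_blk.2 (hmemY p hp)
    · exact mem_blk.2 (mem_blk_sign hpM ν hν (hmemY p hp))
  refine le_trans ?_ (Finset.sum_le_sum_of_subset hsub)
  rw [Finset.sum_union hdisj, Finset.sum_image fun _ _ _ _ h => hinf h,
    Finset.sum_image fun _ _ _ _ h => htw h]
  have hdeg1 : ∀ ζ, Char.degree (Char.inflate Z ζ) = Char.degree ζ := fun ζ => by
    have h := Char.apply_one_eq_degree (Char.inflate Z ζ)
    rw [Char.inflate_apply, QuotientGroup.mk_one, Char.apply_one_eq_degree] at h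
    exact_mod_cast h.symm
  have hdeg2 : ∀ ζ, Char.degree (tw ζ) = Char.degree ζ := fun ζ => by
    have h := Char.apply_one_eq_degree (tw ζ)
    simp only [tw, Pi.mul_apply, map_one, one_mul, Char.inflate_apply, QuotientGroup.mk_one,
      Char.apply_one_eq_degree] at h
    exact_mod_cast h.symm
  simp only [hdeg1, hdeg2]
  have h4ne : ζ₄ ≠ Char.trivialChar (X ⧸ Z) := fun h => by
    have := (hval a ha2).2.2
    rw [h, Char.trivialChar_apply] at this
    norm_num at this
  have h2ne' : ζ₂ ≠ Char.trivialChar (X ⧸ Z) := fun h => h2ne (by rw [h]; rfl)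
  have h3ne' : ζ₃ ≠ Char.trivialChar (X ⧸ Z) := fun h => h3ne (by rw [h]; rfl)
  have hT1 : Char.degree (Char.trivialChar (X ⧸ Z)) = 1 := by
    have h := Char.apply_one_eq_degree (Char.trivialChar (X ⧸ Z))
    rw [Char.trivialChar_apply] at h
    exact_mod_cast h.symm
  rw [hS, Finset.sum_insert (by simp [h2ne'.symm, h3ne'.symm, h4ne.symm]),
    Finset.sum_insert (by simp [h23, h24]), Finset.sum_insert (by simp [h34]),
    Finset.sum_singleton, hT1]
  omega

end Lower

variable {M : Ideal AlgInt} [M.IsMaximal] {u s : G} (D : Data M u s)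
  (hpM : ((2 : ℕ) : AlgInt) ∈ M)
include D hpM

theorem Data.eight (hM : IsPModular 2 M) (P : Sylow 2 G) (hsP : s ∈ (P : Subgroup G))
    (h8 : twoPart G = 8) : Small (P.subtype (D.le_centralizer_s hpM P hsP)) := by
  classical
  intro Y hCY hYN hne
  exfalso
  set P' : Sylow 2 (Cz s) := P.subtype (D.le_centralizer_s hpM P hsP) with hP'
  haveI := Fintype.ofFinite (Cz s)
  have hE : Elem P' := ⟨fun a ha b hb => Subtype.ext (D.comm P ha hb),
    fun a ha => Subtype.ext (D.sq_eq_one P ha)⟩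
  obtain ⟨g, hgY, hgC⟩ := SetLike.exists_of_lt (lt_of_le_of_ne hCY (Ne.symm hne))
  set z : Cz s := ⟨s, Subgroup.mem_centralizer_singleton_iff.2 rfl⟩ with hz
  have hlow := klein_lower hM hpM P' hE
    ((Nat.card_congr (Subgroup.subgroupOfEquivOfLe (D.le_centralizer_s hpM P hsP)).toEquiv).trans
      ((card_sylow P).trans h8))
    (z := z) (by rw [hz, Subgroup.orderOf_mk, D.order]) hsP
    (fun k => Subtype.ext (Subgroup.mem_centralizer_singleton_iff.1 k.2)) (hYN hgY) hgC
    (by
      refine Nat.not_even_iff_odd.1 fun he => P'.not_dvd_index ?_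
      exact ((even_iff_two_dvd.1 he).trans
        (Subgroup.relIndex_dvd_index_of_le (Subgroup.centralizer_le_normalizer _))).trans
          (Subgroup.index_dvd_of_le hE.le_centralizer))
    (fun L _ hodd hC => D.local_eq_top hpM P hsP L hodd hC)
  refine absurd hlow (not_le.2 (D.sum_sq_lt hpM h8 _ ?_))
  have hx : ∃ k, orderOf s = 2 ^ k := ⟨1, by rw [D.order, pow_one]⟩
  have h := second_main_orth hpM hx (isPBlock_principalBlock (G := G) hpM)
    (s := 1) (s' := 1) (by simp [IsPRegular]) (by simp [IsPRegular])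
  rw [inducingSet_principalBlock hpM hx] at h
  simp only [Subgroup.coe_one, mul_one] at h
  push_cast
  unfold blk
  refine Eq.trans ?_ ((by convert h using 2) : _ = _).symm
  refine Finset.sum_congr (by ext; simp) fun θ _ => ?_
  rw [conj_degree, Char.apply_one_eq_degree, pow_two]

/-- The centraliser of the involution is 2-nilpotent. -/
theorem Data.coreHyp (hM : IsPModular 2 M) : CoreHyp M G := by
  intro u' x D' P hP hxP
  refine D'.oddCore_sup_eq_top hpM P hxP ?_
  by_cases h8 : twoPart G = 8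
  · exact D'.eight hpM hM P hxP h8
  · exact D'.small_s P hxP h8 hpM

end Cfsg.Agent.DegreeGap
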