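import Cfsg.Agent.Lib.DegreeGap.Semilinear
import Cfsg.Agent.Lib.Coprime.Generation
import Cfsg.Agent.S1230
import Mathlib.GroupTheory.Perm.Cycle.Type

/-!
# The quotient by the odd core is `PSL(2, 2ⁿ)`

The input is the 2-nilpotence of the centralisers of the involutions.
-/

set_option autoImplicit false
set_option linter.style.haveILetI false
set_option linter.unusedSectionVars false

namespace Cfsg.Agent.DegreeGap

open Cfsg Cfsg.Agent Cfsg.Agent.Blocks
open scoped Pointwise ComplexConjugate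

universe u

variable {G : Type u} [Group G] [Fintype G]

open Classical in
/-- Averaging a character over a subgroup that commutes with `E` gives a character of `E`. -/
theorem isCharacter_average {χ : G → ℂ} (hχ : IsCharacter G χ) (Q E : Subgroup G)
    (hQE : ∀ x ∈ Q, ∀ y ∈ E, x * y = y * x) :
    IsCharacter E (fun w => (Nat.card Q : ℂ)⁻¹ * ∑ x : Q, χ ((x : G) * (w : G))) := by
  rw [Char.isCharacter_iff]
  let f : Q × E →* G := MonoidHom.mk' (fun p => (p.1 : G) * (p.2 : G)) (by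
    rintro ⟨a, b⟩ ⟨c, d⟩
    show ((a * c : Q) : G) * ((b * d : E) : G) = (a : G) * (b : G) * ((c : G) * (d : G))
    rw [Subgroup.coe_mul, Subgroup.coe_mul, mul_assoc (a : G), mul_assoc (a : G),
      ← mul_assoc (c : G), hQE c c.2 b b.2, mul_assoc (b : G)])
  refine ⟨fun a b => congrArg _ (Finset.sum_congr rfl fun x _ => ?_), fun ψ => ?_⟩
  · have h := Char.IsCharacter.isClassFunction hχ ((x : G) * (a : G)) (b : G)
    rw [← h]
    congr 1
    rw [← mul_assoc (b : G), ← hQE x x.2 b b.2]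
    simp [mul_assoc]
  · obtain ⟨n, hn⟩ := Char.IsCharacter.exists_nat_classInner (Char.IsCharacter.comp hχ f)
      (Char.IsCharacter.comp (Char.irr_isCharacter ψ) (MonoidHom.snd Q E))
    refine ⟨n, hn ▸ ?_⟩
    simp only [classInner, Function.comp_apply, Fintype.sum_prod_type, Nat.card_prod, Nat.cast_mul,
      MonoidHom.coe_snd, mul_inv]
    rw [Finset.sum_comm, Finset.mul_sum, Finset.mul_sum]
    refine Finset.sum_congr rfl fun y _ => ?_
    simp only [Finset.mul_sum, Finset.sum_mul]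
    refine Finset.sum_congr rfl fun x _ => ?_
    show _ = _ * _ * (χ ((x : G) * (y : G)) * conj (ψ.1 y))
    ring

variable [Fact (Nat.Prime 2)] {M : Ideal AlgInt} [M.IsMaximal] {u s : G} (D : Data M u s)
  (hpM : ((2 : ℕ) : AlgInt) ∈ M)
include D

theorem Data.conj (c : G) : Data M (c * u * c⁻¹) (c * s * c⁻¹) where
  gap χ hχ hne := by
    rw [Char.IsCharacter.isClassFunction (Char.irr_isCharacter χ) u c]
    exact D.gap χ hχ hne
  order := by
    rw [show c * s * c⁻¹ = MulAut.conj c s from rfl, MulEquiv.orderOf_eq, D.order]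
  ppart := IsPPart.conj D.ppart c
  fused v hv hv1 := (D.fused v hv hv1).trans (isConj_iff.2 ⟨c, rfl⟩)
  four := D.four

theorem Data.exists_data (P : Sylow 2 G) {x : G} (hx : x ∈ (P : Subgroup G)) (hx1 : x ≠ 1) :
    ∃ u' : G, Data M u' x := by
  obtain ⟨c, hc⟩ := isConj_iff.1 (D.isConj_of_mem P hx hx1).symm
  exact ⟨_, hc ▸ D.conj c⟩

/-- The centraliser of every involution of `P` is 2-nilpotent. -/
def CoreHyp (M : Ideal AlgInt) (G : Type u) [Group G] [Fintype G] : Prop :=
  ∀ (u' x : G), Data M u' x → ∀ (P : Sylow 2 G) (hP : (P : Subgroup G) ≤ Cz x), x ∈ (P : Subgroup G) →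
    oddCore (Cz x) ⊔ ((P.subtype hP : Sylow 2 (Cz x)) : Subgroup (Cz x)) = ⊤

include hpM

variable (hcore : CoreHyp M G)
include hcore

theorem Data.cz_le (P : Sylow 2 G) {x : G} (hx : x ∈ (P : Subgroup G)) (hx1 : x ≠ 1) :
    Cz x ≤ oc (Cz x) ⊔ (P : Subgroup G) := by
  obtain ⟨u', D'⟩ := D.exists_data P hx hx1
  have hP := D'.le_centralizer_s hpM P hx
  intro g hg
  obtain ⟨o, ho, v, hv, he⟩ : (⟨g, hg⟩ : Cz x) ∈ ((oddCore (Cz x) : Subgroup (Cz x)) : Set (Cz x)) *
      (((P.subtype hP : Sylow 2 (Cz x)) : Subgroup (Cz x)) : Set (Cz x)) := by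
    rw [← Subgroup.normal_mul, hcore u' x D' P hP hx]; trivial
  rw [show g = (o : G) * (v : G) from (congrArg Subtype.val he).symm]
  exact mul_mem (Subgroup.mem_sup_left ⟨o, ho, rfl⟩) (Subgroup.mem_sup_right hv)

theorem Data.odd_mem (P : Sylow 2 G) {x : G} (hx : x ∈ (P : Subgroup G)) (hx1 : x ≠ 1) {z : G}
    (hz : z ∈ Cz x) (hodd : Odd (orderOf z)) : z ∈ oc (Cz x) := by
  obtain ⟨u', D'⟩ := D.exists_data P hx hx1
  have hP := D'.le_centralizer_s hpM P hx
  obtain ⟨o, ho, v, hv, he⟩ : (⟨z, hz⟩ : Cz x) ∈ ((oddCore (Cz x) : Subgroup (Cz x)) : Set (Cz x)) *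
      (((P.subtype hP : Sylow 2 (Cz x)) : Subgroup (Cz x)) : Set (Cz x)) := by
    rw [← Subgroup.normal_mul, hcore u' x D' P hP hx]; trivial
  refine ⟨⟨z, hz⟩, ?_, rfl⟩
  have h1 : QuotientGroup.mk' (oddCore (Cz x)) ⟨z, hz⟩ = QuotientGroup.mk' (oddCore (Cz x)) v := by
    rw [← he]
    show QuotientGroup.mk' (oddCore (Cz x)) (o * v) = _
    rw [map_mul, show QuotientGroup.mk' (oddCore (Cz x)) o = 1 from
      (QuotientGroup.eq_one_iff o).2 ho, one_mul]
  refine (QuotientGroup.eq_one_iff _).1 (eq_one_of_orderOf hodd ?_ ?_ :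
    QuotientGroup.mk' (oddCore (Cz x)) (⟨z, hz⟩ : Cz x) = 1)
  · rw [← map_pow, show (⟨z, hz⟩ : Cz x) ^ orderOf z = 1 from Subtype.ext (pow_orderOf_eq_one z),
      map_one]
  · rw [h1, ← map_mul, show v * v = 1 from Subtype.ext (D.sq_eq_one P hv), map_one]

omit hcore in
theorem Data.kernel_odd {χ : IrrCharacter G} (hχB : χ ∈ principalBlock M G)
    (hne : χ ≠ Char.trivialChar G) :
    Odd (Nat.card (CharInt.charKernel (Char.irr_isCharacter χ))) := by
  refine Nat.not_even_iff_odd.1 fun he => ?_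
  obtain ⟨v, hv⟩ := exists_prime_orderOf_dvd_card' 2 (even_iff_two_dvd.1 he)
  have hv2 : orderOf (v : G) = 2 := by rw [Subgroup.orderOf_coe, hv]
  have hv1 : (v : G) ≠ 1 := fun h => by
    rw [h, orderOf_one] at hv2
    omega
  refine hne (D.eq_trivial_of_apply_s hpM hχB ?_)
  rw [← CharInt.char_eq_of_isConj (Char.irr_isCharacter χ)
    (D.fused v ⟨1, by rw [hv2, pow_one]⟩ hv1)]
  exact (CharInt.mem_charKernel _).1 v.2

theorem Data.oc_inf_le (P : Sylow 2 G) (hsP : s ∈ (P : Subgroup G))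
    {χ : IrrCharacter G} (hχB : χ ∈ principalBlock M G) (hne : χ ≠ Char.trivialChar G)
    (hχ1 : χ.1 1 = (twoPart G : ℂ) - 1) :
    oc (Cz s) ≤ CharInt.charKernel (Char.irr_isCharacter χ) := by
  classical
  set K := CharInt.charKernel (Char.irr_isCharacter χ) with hK
  haveI : IsMulCommutative (P : Subgroup G) := ⟨⟨fun a b => Subtype.ext (D.comm P a.2 b.2)⟩⟩
  have hPC := D.le_centralizer_s hpM P hsP
  have hPM : (P : Subgroup G) ≤ Subgroup.normalizer ((oc (Cz s) : Subgroup G) : Set G) := fun v hv => by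
    rw [Subgroup.mem_normalizer_iff]
    refine fun y => ⟨fun hy => oc_conj_mem hy (hPC hv), fun h => ?_⟩
    simpa [mul_assoc] using oc_conj_mem h (inv_mem (hPC hv))
  have hcop : (Nat.card (P : Subgroup G)).Coprime (Nat.card (oc (Cz s))) := by
    rw [card_sylow]
    exact (Nat.coprime_two_left.2 (odd_oc _)).pow_left _
  have hval : ∀ x ∈ (P : Subgroup G), x ≠ 1 → ∀ z ∈ oc (Cz s), x * z = z * x →
      χ.1 (x * z) = -1 := by
    intro x hx hx1 z hz hxz
    have hzo : Odd (orderOf z) := (odd_oc (Cz s)).of_dvd_nat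
      (Subgroup.orderOf_mk z hz ▸ orderOf_dvd_natCard (⟨z, hz⟩ : oc (Cz s)))
    have hzc : z ∈ centralizerPPrimeCore 2 x :=
      D.odd_mem hpM hcore P hx hx1 (Subgroup.mem_centralizer_singleton_iff.2 hxz.symm) hzo
    have hxp : ∃ k, orderOf x = 2 ^ k := by
      obtain ⟨e, he⟩ := IsPGroup.iff_orderOf.1 P.2 ⟨x, hx⟩
      exact ⟨e, by rwa [← Subgroup.orderOf_coe] at he⟩
    rw [principal_apply_mul_core hpM hxp hzc hχB, D.apply_mem hpM hχB hne P hx hx1, hχ1]
    ring
  -- the averaged character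
  have havg : ∀ B : Subgroup G, B ≤ (P : Subgroup G) →
      ∀ z : ↥(oc (Cz s) ⊓ Subgroup.centralizer (B : Set G)),
      (Nat.card B : ℂ)⁻¹ * ∑ x : B, χ.1 ((x : G) * (z : G)) =
        (χ.1 (z : G) - ((Nat.card B : ℂ) - 1)) / (Nat.card B : ℂ) := by
    intro B hB z
    rw [← Finset.add_sum_erase _ _ (Finset.mem_univ (1 : B)),
      Finset.sum_congr rfl (g := fun _ => (-1 : ℂ)) fun (x : B) hx =>
        hval x (hB x.2) (fun h => (Finset.mem_erase.1 hx).1 (Subtype.ext h)) z z.2.1
          (Subgroup.mem_centralizer_iff.1 z.2.2 x x.2),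
      Finset.sum_const, nsmul_eq_mul, Finset.card_erase_of_mem (Finset.mem_univ _),
      Finset.card_univ, ← Nat.card_eq_fintype_card, Nat.cast_sub Nat.card_pos,
      Subgroup.coe_one, one_mul, Nat.cast_one]
    rw [div_eq_inv_mul]
    ring
  have hchar : ∀ B : Subgroup G, B ≤ (P : Subgroup G) →
      IsCharacter ↥(oc (Cz s) ⊓ Subgroup.centralizer (B : Set G)) (fun z =>
        (χ.1 (z : G) - ((Nat.card B : ℂ) - 1)) / (Nat.card B : ℂ)) := by
    intro B hB
    have h := isCharacter_average (Char.irr_isCharacter χ) B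
      (oc (Cz s) ⊓ Subgroup.centralizer (B : Set G)) fun x hx y hy =>
        Subgroup.mem_centralizer_iff.1 hy.2 x hx
    rwa [funext (havg B hB)] at h
  have hq := D.four
  -- the centraliser of `P`
  have hfull : oc (Cz s) ⊓ Subgroup.centralizer ((P : Subgroup G) : Set G) ≤ K := by
    intro z hz
    have h := Char.IsCharacter.eq_zero_of_apply_one (hchar _ le_rfl) (by
      simp only [card_sylow, Subgroup.coe_one, hχ1, sub_self, zero_div])
    have h2 := congrFun h ⟨z, hz⟩
    simp only [Pi.zero_apply, div_eq_zero_iff, card_sylow, Nat.cast_eq_zero] at h2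
    rw [hK, CharInt.mem_charKernel, hχ1]
    exact sub_eq_zero.1 (h2.resolve_right (by omega))
  refine Coprime.le_of_forall_cyclic_quotient hPM hcop fun B hB => ?_
  rintro ⟨a, ha, hBa⟩
  by_cases haB : a ∈ B
  · rw [sup_eq_left.2 (Subgroup.zpowers_le.2 haB)] at hBa
    rw [hBa]; exact hfull
  have ha2 : a * a = 1 := D.sq_eq_one P ha
  have hdec : ∀ v ∈ (P : Subgroup G), v ∈ B ∨ v * a ∈ B := by
    intro v hv
    have hle : Subgroup.zpowers a ≤ Subgroup.normalizer (B : Set G) := by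
      rw [Subgroup.zpowers_le, Subgroup.mem_normalizer_iff]
      intro y
      constructor
      · intro hy
        rwa [D.comm P ha (hB hy), mul_inv_cancel_right]
      · intro h
        have h3 := D.comm P ha (hB h)
        rw [inv_mul_cancel_right] at h3
        rwa [mul_left_cancel h3] at h
    obtain ⟨i, hi, b, hb, rfl⟩ : v ∈ ((Subgroup.zpowers a : Subgroup G) : Set G) * (B : Set G) := by
      rw [← Subgroup.coe_mul_of_left_le_normalizer_right _ _ hle, sup_comm, hBa]
      exact hv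
    obtain ⟨j, rfl⟩ := hi
    have hbP := D.comm P (hB hb) ha
    rcases Int.even_or_odd' j with ⟨m, rfl | rfl⟩
    · left
      show a ^ (2 * m) * b ∈ B
      rwa [zpow_mul, zpow_two, ha2, one_zpow, one_mul]
    · right
      show a ^ (2 * m + 1) * b * a ∈ B
      rw [zpow_add, zpow_mul, zpow_two, ha2, one_zpow, one_mul, zpow_one, mul_assoc, hbP,
        ← mul_assoc, ha2, one_mul]
      exact hb
  have hcard : Nat.card (P : Subgroup G) = 2 * Nat.card B := by
    have h1 : B.relIndex (P : Subgroup G) = 2 := by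
      have : (B.subgroupOf (P : Subgroup G)).index = 2 := by
        rw [Subgroup.index_eq_two_iff]
        refine ⟨⟨a, ha⟩, fun v => ?_⟩
        simp only [Subgroup.mem_subgroupOf, Subgroup.coe_mul]
        rcases hdec v v.2 with h | h
        · refine Or.inr ⟨h, fun h' => haB ?_⟩
          have := mul_mem (inv_mem h) h'
          rwa [inv_mul_cancel_left] at this
        · refine Or.inl ⟨h, fun h' => haB ?_⟩
          have := mul_mem (inv_mem h') h
          rwa [inv_mul_cancel_left] at this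
      exact this
    rw [← Subgroup.card_mul_index (B.subgroupOf (P : Subgroup G)),
      Nat.card_congr (Subgroup.subgroupOfEquivOfLe hB).toEquiv]
    rw [Subgroup.relIndex] at h1
    rw [h1, mul_comm]
  rw [card_sylow] at hcard
  set E := oc (Cz s) ⊓ Subgroup.centralizer (B : Set G) with hE
  have hb0 : (Nat.card B : ℂ) ≠ 0 := Nat.cast_ne_zero.2 Nat.card_pos.ne'
  have h1 : (χ.1 ((1 : E) : G) - ((Nat.card B : ℂ) - 1)) / (Nat.card B : ℂ) = 1 := by
    rw [Subgroup.coe_one, hχ1, hcard, Nat.cast_mul, Nat.cast_two,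
      show (2 * (Nat.card B : ℂ) - 1 - ((Nat.card B : ℂ) - 1)) = Nat.card B by ring, div_self hb0]
  obtain ⟨lam, hlam⟩ := Char.IsCharacter.exists_monoidHom (hchar B hB) h1
  intro z hz
  have haC : ∀ y ∈ E, a * y * a⁻¹ ∈ E := fun y hy => ⟨(Subgroup.mem_normalizer_iff.1 (hPM ha) y).1 hy.1,
    Subgroup.mem_centralizer_iff.2 fun b hb => by
      have e1 := D.comm P (hB hb) ha
      calc b * (a * y * a⁻¹) = (b * a) * y * a⁻¹ := by group
        _ = a * (b * y) * a⁻¹ := by rw [e1]; group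
        _ = a * (y * b) * a⁻¹ := by rw [Subgroup.mem_centralizer_iff.1 hy.2 b hb]
        _ = a * y * (b * a⁻¹) := by group
        _ = a * y * a⁻¹ * b := by
          rw [inv_eq_of_mul_eq_one_right ha2, e1, ← mul_assoc (a * y)]⟩
  -- a fixed element with the same value
  set z' : E := ⟨z, hz⟩ with hz'
  haveI := Fintype.ofFinite {y : E // lam y = lam z'}
  have hlval : ∀ y : E, lam y = (χ.1 (y : G) - ((Nat.card B : ℂ) - 1)) / (Nat.card B : ℂ) :=
    fun y => congrFun hlam y
  let cj : {y : E // lam y = lam z'} → {y : E // lam y = lam z'} := fun y =>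
    ⟨⟨a * (y.1 : G) * a⁻¹, haC _ y.1.2⟩, by
      refine ((hlval _).trans ?_).trans ((hlval y.1).symm.trans y.2)
      show (χ.1 (a * (y.1 : G) * a⁻¹) - _) / _ = _
      rw [Char.IsCharacter.isClassFunction (Char.irr_isCharacter χ) (y.1 : G) a]⟩
  have hcj : Function.Involutive cj := fun y => Subtype.ext (Subtype.ext (by
    show a * (a * (y.1 : G) * a⁻¹) * a⁻¹ = y.1
    rw [inv_eq_of_mul_eq_one_right ha2, ← mul_assoc, ← mul_assoc, ha2, one_mul, mul_assoc, ha2,
      mul_one]))
  have hfibre : Nat.card {y : E // lam y = lam z'} = Nat.card lam.ker := by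
    refine Nat.card_congr ((Equiv.mulLeft z'⁻¹).subtypeEquiv fun y => ?_)
    show _ ↔ lam (z'⁻¹ * y) = 1
    rw [map_mul]
    constructor
    · intro h; rw [h, ← map_mul, inv_mul_cancel, map_one]
    · intro h
      calc lam y = lam (z' * z'⁻¹) * lam y := by rw [mul_inv_cancel, map_one, one_mul]
        _ = lam z' := by rw [map_mul, mul_assoc, h, mul_one]
  have hodd2 : ¬ 2 ∣ Fintype.card {y : E // lam y = lam z'} := by
    rw [← Nat.card_eq_fintype_card, hfibre]
    intro h
    exact Nat.not_even_iff_odd.2 ((odd_oc (Cz s)).of_dvd_nat (Subgroup.card_dvd_of_le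
      (inf_le_left : E ≤ oc (Cz s)))) (even_iff_two_dvd.2 (h.trans (Subgroup.card_subgroup_dvd_card _)))
  obtain ⟨y, hy⟩ := Equiv.Perm.exists_fixed_point_of_prime (p := 2) (n := 1) hodd2
    (σ := hcj.toPerm) (Equiv.ext fun w => by
      rw [pow_one, pow_two]; exact hcj w)
  have hyK : ((y.1 : E) : G) ∈ K := by
    refine hfull ⟨y.1.2.1, Subgroup.mem_centralizer_iff.2 fun v hv => ?_⟩
    have hay : a * (y.1 : G) * a⁻¹ = (y.1 : G) := congrArg (fun w => ((w.1 : E) : G)) hy
    have hay' : a * (y.1 : G) = (y.1 : G) * a := mul_inv_eq_iff_eq_mul.1 hay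
    rcases hdec v hv with h | h
    · exact Subgroup.mem_centralizer_iff.1 y.1.2.2 v h
    · have e1 := Subgroup.mem_centralizer_iff.1 y.1.2.2 _ h
      calc v * (y.1 : G) = v * (a * a) * (y.1 : G) := by rw [ha2, mul_one]
        _ = v * a * ((y.1 : G) * a) := by rw [← hay']; group
        _ = (y.1 : G) * (v * a) * a := by rw [← mul_assoc, e1]
        _ = (y.1 : G) * v := by rw [mul_assoc, mul_assoc, ha2, mul_one]
  rw [hK, CharInt.mem_charKernel] at hyK ⊢
  have h3 := (hlval y.1).symm.trans (y.2.trans (hlval z'))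
  rw [hyK] at h3
  have h4 := (div_left_inj' hb0).1 h3
  exact (sub_left_inj.1 h4).symm

/-- The forward direction in the main case. -/
theorem Data.main :
    ∃ (F : Type) (_ : Field F) (_ : Fintype F) (n : ℕ), 2 ≤ n ∧ Fintype.card F = 2 ^ n ∧
      Nonempty (G ⧸ oddCore G ≃* Matrix.ProjectiveSpecialLinearGroup (Fin 2) F) ∧
      u ∉ oddCore G ∧ u ^ 2 ∈ oddCore G := by
  classical
  obtain ⟨χ, hχB, hne, hχ1⟩ := D.exists_small hpM
  obtain ⟨P, hsP⟩ := D.exists_sylow
  set K := CharInt.charKernel (Char.irr_isCharacter χ) with hK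
  haveI hKn : K.Normal := CharInt.charKernel_normal _
  have hKodd : Odd (Nat.card K) := D.kernel_odd hpM hχB hne
  have hKO : oddCore G = K := by
    refine le_antisymm (fun g hg => ?_) (PCore.le_oddCore hKodd)
    have h2 : ¬ 2 ∣ Nat.card (oddCore G) := fun h =>
      Nat.not_even_iff_odd.2 PCore.odd_card_oddCore (even_iff_two_dvd.2 h)
    have := le_blockKer hpM (isPBlock_principalBlock hpM) trivial_mem_principalBlock h2
      (fun _ _ => rfl) hg
    exact (CharInt.mem_charKernel _).2 (mem_blockKerSubgroup.1 this χ hχB)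
  have hocK : ∀ x ∈ (P : Subgroup G), x ≠ 1 → oc (Cz x) ≤ K := fun x hx hx1 => by
    obtain ⟨u', D'⟩ := D.exists_data P hx hx1
    exact D'.oc_inf_le hpM hcore P hx hχB hne hχ1
  have hs1 : s ≠ 1 := fun h => by
    have := D.order
    rw [h, orderOf_one] at this
    omega
  set π := QuotientGroup.mk' K with hπ
  have hπs : Function.Surjective π := QuotientGroup.mk'_surjective K
  have hker : ∀ {g : G}, π g = 1 → g ∈ K := fun {g} h => (QuotientGroup.eq_one_iff g).1 h
  have hPK : ∀ v ∈ (P : Subgroup G), π v = 1 → v = 1 := fun v hv h =>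
    eq_one_of_orderOf hKodd (congrArg Subtype.val (pow_card_eq_one' (x := (⟨v, hker h⟩ : K))))
      (D.sq_eq_one P hv)
  let T : Sylow 2 (G ⧸ K) := P.mapSurjective hπs
  have hT : (T : Subgroup (G ⧸ K)) = (P : Subgroup G).map π := Sylow.coe_mapSurjective hπs P
  have hTcard : Nat.card (T : Subgroup (G ⧸ K)) = twoPart G := by
    rw [← card_sylow P, hT]
    refine (Nat.card_congr (Equiv.ofBijective
      (fun v : (P : Subgroup G) => (⟨π v, v, v.2, rfl⟩ : (P : Subgroup G).map π)) ⟨?_, ?_⟩)).symm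
    · intro v w h
      have h1 : π ((v : G) * (w : G)⁻¹) = 1 := by
        rw [map_mul, map_inv, show π v = π w from congrArg Subtype.val h, mul_inv_cancel]
      exact Subtype.ext (mul_inv_eq_one.1 (hPK _ (mul_mem v.2 (inv_mem w.2)) h1))
    · rintro ⟨_, v, hv, rfl⟩
      exact ⟨⟨v, hv⟩, rfl⟩
  have hTsq : ∀ c ∈ (T : Subgroup (G ⧸ K)), c * c = 1 := by
    rw [hT]
    rintro _ ⟨v, hv, rfl⟩
    rw [← map_mul, D.sq_eq_one P hv, map_one]
  have hTcomm : ∀ c ∈ (T : Subgroup (G ⧸ K)), ∀ d ∈ (T : Subgroup (G ⧸ K)), c * d = d * c := by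
    rw [hT]
    rintro _ ⟨v, hv, rfl⟩ _ ⟨w, hw, rfl⟩
    rw [← map_mul, D.comm P hv hw, map_mul]
  -- centralisers in the quotient
  have hcent : ∀ x ∈ (P : Subgroup G), x ≠ 1 →
      Subgroup.centralizer ({π x} : Set (G ⧸ K)) ≤ (T : Subgroup (G ⧸ K)) := by
    intro x hx hx1 c hc
    obtain ⟨g, rfl⟩ := hπs c
    have hxx : x * x = 1 := D.sq_eq_one P hx
    set t := g * x * g⁻¹ * x⁻¹ with ht
    have htK : t ∈ K := hker (by
      rw [ht, map_mul, map_mul, map_mul, map_inv, map_inv,
        Subgroup.mem_centralizer_singleton_iff.1 hc, mul_inv_cancel_right, mul_inv_cancel])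
    have hxi : x⁻¹ = x := inv_eq_of_mul_eq_one_right hxx
    have htx : t * x = g * x * g⁻¹ := by rw [ht, inv_mul_cancel_right]
    have htx2 : t * x * (t * x) = 1 := by
      rw [htx]
      calc g * x * g⁻¹ * (g * x * g⁻¹) = g * (x * x) * g⁻¹ := by group
        _ = 1 := by rw [hxx]; group
    obtain ⟨i, hi⟩ := hKodd
    have htn : t ^ (2 * i + 1) = 1 := by
      rw [← hi]; exact congrArg Subtype.val (pow_card_eq_one' (x := (⟨t, htK⟩ : K)))
    have hinv : x * t * x = t⁻¹ := by
      refine eq_inv_of_mul_eq_one_left ?_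
      calc x * t * x * t = x * (t * x * (t * x)) * x⁻¹ := by group
        _ = 1 := by rw [htx2, mul_one, mul_inv_cancel]
    have hinv' : x * t ^ (i + 1) * x = (t ^ (i + 1))⁻¹ := by
      have : x * t * x⁻¹ = t⁻¹ := by rw [hxi]; exact hinv
      rw [← inv_pow, ← this, conj_pow, hxi]
    have hkx : t ^ (i + 1) * x * (t ^ (i + 1))⁻¹ = g * x * g⁻¹ := by
      calc t ^ (i + 1) * x * (t ^ (i + 1))⁻¹
          = t ^ (i + 1) * (x * x) * t ^ (i + 1) * x := by rw [← hinv']; group
        _ = t ^ (i + 1 + (i + 1)) * x := by rw [hxx, mul_one, ← pow_add]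
        _ = t * x := by
          rw [show i + 1 + (i + 1) = 2 * i + 1 + 1 by omega, pow_succ, htn, one_mul]
        _ = g * x * g⁻¹ := htx
    set k := t ^ (i + 1) with hk
    have hkg : k⁻¹ * g ∈ Cz x := Subgroup.mem_centralizer_singleton_iff.2 (by
      calc k⁻¹ * g * x = k⁻¹ * (g * x * g⁻¹) * g := by group
        _ = k⁻¹ * (k * x * k⁻¹) * g := by rw [hkx]
        _ = x * (k⁻¹ * g) := by group)
    have hle : Cz x ≤ ((T : Subgroup (G ⧸ K))).comap π := by
      refine (D.cz_le hpM hcore P hx hx1).trans (sup_le ((hocK x hx hx1).trans fun y hy => ?_) ?_)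
      · rw [Subgroup.mem_comap, show π y = 1 from (QuotientGroup.eq_one_iff y).2 hy]
        exact one_mem _
      · rw [hT]; exact Subgroup.le_comap_map π _
    have h5 := hle hkg
    rw [Subgroup.mem_comap, map_mul, map_inv, show π k = 1 from
      (QuotientGroup.eq_one_iff k).2 (pow_mem htK _), inv_one, one_mul] at h5
    exact h5
  have hq := D.four
  have hnc : ¬ IsCyclic (T : Subgroup (G ⧸ K)) := by
    intro hcy
    obtain ⟨g, hg⟩ := hcy.exists_generator
    have h2 : Nat.card (T : Subgroup (G ⧸ K)) ≤ 2 := by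
      rw [← orderOf_eq_card_of_forall_mem_zpowers hg]
      exact Nat.le_of_dvd two_pos (orderOf_dvd_of_pow_eq_one (Subtype.ext (by
        rw [SubmonoidClass.coe_pow, pow_two]; exact hTsq g g.2)))
    omega
  have hnn : ¬ (T : Subgroup (G ⧸ K)).Normal := by
    intro hn
    haveI : ((T : Subgroup (G ⧸ K)).comap π).Normal := inferInstance
    have hle : (P : Subgroup G) ≤ (T : Subgroup (G ⧸ K)).comap π := by
      rw [hT]; exact Subgroup.le_comap_map π _
    have hKle : K ≤ (T : Subgroup (G ⧸ K)).comap π := fun y hy => by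
      rw [Subgroup.mem_comap, show π y = 1 from (QuotientGroup.eq_one_iff y).2 hy]
      exact one_mem _
    have htop : (T : Subgroup (G ⧸ K)).comap π = ⊤ := by
      refine D.eq_top hpM P _ (Nat.not_even_iff_odd.1 fun he => P.not_dvd_index
        ((even_iff_two_dvd.1 he).trans (Subgroup.index_dvd_of_le hle))) ?_
      intro c hc
      exact (D.cz_le hpM hcore P hsP hs1).trans (sup_le ((hocK s hsP hs1).trans hKle) hle)
        (Subgroup.mem_centralizer_singleton_iff.2 (Subgroup.mem_centralizer_iff.1 hc s hsP).symm)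
    obtain ⟨y, hy, hy1, hys⟩ : ∃ y ∈ (P : Subgroup G), y ≠ 1 ∧ y ≠ s := by
      by_contra h
      push Not at h
      have h2 : Nat.card (P : Subgroup G) ≤ 2 := by
        rw [← SetLike.coe_sort_coe, Nat.card_coe_set_eq]
        refine (Set.ncard_le_ncard (t := {1, s}) (fun y hy => ?_) (Set.toFinite _)).trans ?_
        · by_cases hy1 : y = 1
          · exact Or.inl hy1
          · exact Or.inr (h y hy hy1)
        · exact (Set.ncard_insert_le _ _).trans (by simp)
      rw [card_sylow] at h2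
      omega
    obtain ⟨c, hc⟩ := isConj_iff.1 (D.isConj_of_mem P hy hy1)
    have hmem : ∀ g, π g ∈ (T : Subgroup (G ⧸ K)) := fun g =>
      show g ∈ (T : Subgroup (G ⧸ K)).comap π from htop ▸ Subgroup.mem_top g
    have h6 : π s = π y := by
      rw [← hc, map_mul, map_mul, map_inv, hTcomm _ (hmem c) _ (hmem y), mul_inv_cancel_right]
    refine hys (mul_inv_eq_one.1 (hPK _ (mul_mem hy (inv_mem hsP)) ?_))
    rw [map_mul, map_inv, ← h6, mul_inv_cancel]
  obtain ⟨F, iF, iFF, hcard, ⟨e⟩⟩ := S1230.result T hnc hnn fun v hv => by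
    obtain ⟨U, hU⟩ := IsPGroup.exists_le_sylow (p := 2) (P := Subgroup.zpowers v)
      (IsPGroup.of_card (n := 1) (by rw [Nat.card_zpowers, hv, pow_one]))
    obtain ⟨c, hc⟩ := MulAction.exists_smul_eq (G ⧸ K) U T
    have hcv : c * v * c⁻¹ ∈ (T : Subgroup (G ⧸ K)) := by
      rw [← hc]
      exact ⟨v, hU (Subgroup.mem_zpowers v), rfl⟩
    rw [hT] at hcv
    obtain ⟨x, hx, hxv⟩ := hcv
    have hx1 : x ≠ 1 := fun h => by
      rw [h, map_one] at hxv
      rw [conj_eq_one_iff.1 hxv.symm, orderOf_one] at hv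
      omega
    have hle : ∀ w ∈ Subgroup.centralizer ({v} : Set (G ⧸ K)),
        c * w * c⁻¹ ∈ (T : Subgroup (G ⧸ K)) := fun w hw =>
      hcent x hx hx1 (Subgroup.mem_centralizer_singleton_iff.2 (by
        rw [hxv]
        calc c * w * c⁻¹ * (c * v * c⁻¹) = c * (w * v) * c⁻¹ := by group
          _ = c * (v * w) * c⁻¹ := by rw [Subgroup.mem_centralizer_singleton_iff.1 hw]
          _ = c * v * c⁻¹ * (c * w * c⁻¹) := by group))
    refine ⟨⟨⟨fun a b => Subtype.ext ?_⟩⟩, fun w hw => ?_⟩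
    · have h := hTcomm _ (hle a a.2) _ (hle b b.2)
      have e1 : ∀ p r : G ⧸ K, c * p * c⁻¹ * (c * r * c⁻¹) = c * (p * r) * c⁻¹ := fun p r => by group
      rw [e1, e1] at h
      exact mul_left_cancel (mul_right_cancel h)
    · have h := hTsq _ (hle w hw)
      rw [show c * w * c⁻¹ * (c * w * c⁻¹) = c * (w * w) * c⁻¹ by group, conj_eq_one_iff] at h
      rwa [pow_two]
  have hcardF : Fintype.card F = 2 ^ (Nat.card G).factorization 2 := hcard.trans hTcard
  refine ⟨F, iF, iFF, (Nat.card G).factorization 2, ?_, hcardF,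
    ⟨(QuotientGroup.quotientMulEquivOfEq hKO).trans e⟩, ?_, ?_⟩
  · by_contra h
    have : twoPart G ≤ 2 := (Nat.pow_le_pow_right two_pos (by omega)).trans (pow_one 2).le
    omega
  · intro hu
    refine D.singular_u fun h2 => ?_
    exact Nat.not_even_iff_odd.2 PCore.odd_card_oddCore (even_iff_two_dvd.2
      (h2.trans (Subgroup.orderOf_dvd_natCard _ hu)))
  · obtain ⟨y, hy, hc, -, hyr⟩ := D.ppart
    rw [hKO, ← hy, hc.mul_pow, show s ^ 2 = 1 by rw [← D.order, pow_orderOf_eq_one], one_mul]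
    refine pow_mem (hocK s hsP hs1 (D.odd_mem hpM hcore P hsP hs1
      (Subgroup.mem_centralizer_singleton_iff.2 hc.eq.symm) ?_)) 2
    exact Nat.not_even_iff_odd.1 fun h => hyr (even_iff_two_dvd.1 h)

end Cfsg.Agent.DegreeGap
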