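import Cfsg.Agent.S0205
import Cfsg.Agent.Lib.SSFT.HasSFT
import Cfsg.Agent.Lib.ZStar.Main
import Cfsg.Agent.Lib.ZStar.Consumers
import Cfsg.Agent.Lib.ZStar.Induction
import Cfsg.Agent.Lib.Transfer.Burnside
import Cfsg.Agent.Lib.Coprime.Generation
import Cfsg.Agent.Lib.Coprime.Basic
import Cfsg.Agent.Lib.PCore.Basic
import Cfsg.Prelude.Def_CaseTheorems

/-!
# Elementary abelian Sylow 2-subgroups with a small automizer

If every nontrivial subgroup `Y` of the automizer of the elementary abelian Sylow 2-subgroup `P`
moves a section of order more than 4 and has fewer elements than that section has involutions, then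
`X = O(X) N(P)`.  Induction, `Z*` and the solvable signalizer functor theorem.
-/

set_option autoImplicit false
set_option linter.style.haveILetI false
set_option linter.unusedSectionVars false

namespace Cfsg.Agent.DegreeGap

open Cfsg Subgroup
open scoped Pointwise

universe u

variable {X : Type u} [Group X] [Finite X]

/-- The odd core of a subgroup, as a subgroup of the group. -/
def oc (H : Subgroup X) : Subgroup X := (oddCore H).map H.subtype

theorem oc_le (H : Subgroup X) : oc H ≤ H := map_subtype_le _

theorem odd_oc (H : Subgroup X) : Odd (Nat.card (oc H)) := by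
  rw [oc, card_map_of_injective H.subtype_injective]
  exact PCore.odd_card_oddCore

theorem oc_conj_mem {H : Subgroup X} {x y : X} (hx : x ∈ oc H) (hy : y ∈ H) :
    y * x * y⁻¹ ∈ oc H := by
  obtain ⟨x', hx', rfl⟩ := hx
  exact ⟨⟨y, hy⟩ * x' * ⟨y, hy⟩⁻¹, (inferInstance : (oddCore H).Normal).conj_mem x' hx' _, rfl⟩

theorem le_oc {H D : Subgroup X} (hD : D ≤ H) (hn : ∀ h ∈ H, ∀ d ∈ D, h * d * h⁻¹ ∈ D)
    (hodd : Odd (Nat.card D)) : D ≤ oc H := by
  intro d hd
  haveI : (D.subgroupOf H).Normal := ⟨fun a ha h => hn h h.2 a ha⟩
  have : D.subgroupOf H ≤ oddCore H := PCore.le_oddCore (by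
    rwa [Nat.card_congr (subgroupOfEquivOfLe hD).toEquiv])
  exact ⟨⟨d, hD hd⟩, this hd, rfl⟩

theorem oc_equivariant {H H' : Subgroup X} (g : X) (hg : ∀ h, h ∈ H ↔ g * h * g⁻¹ ∈ H') :
    ∀ x ∈ oc H, g * x * g⁻¹ ∈ oc H' := by
  intro x hx
  refine (le_oc (D := (oc H).map (MulAut.conj g).toMonoidHom) ?_ ?_ ?_) ⟨x, hx, rfl⟩
  · rintro _ ⟨y, hy, rfl⟩
    exact (hg y).1 (oc_le H hy)
  · rintro h hh _ ⟨y, hy, rfl⟩
    have hgh : g⁻¹ * h * g ∈ H := (hg _).2 (by simpa [mul_assoc] using hh)
    refine ⟨g⁻¹ * h * g * y * (g⁻¹ * h * g)⁻¹, oc_conj_mem hy hgh, ?_⟩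
    simp [MulAut.conj_apply, mul_assoc]
  · rw [card_map_of_injective (MulAut.conj g).injective]
    exact odd_oc H

theorem eq_one_of_orderOf {v : X} {n : ℕ} (hn : Odd n) (h1 : v ^ n = 1) (h2 : v * v = 1) :
    v = 1 := by
  obtain ⟨m, rfl⟩ := hn
  rwa [pow_succ, pow_mul, pow_two, h2, one_pow, one_mul] at h1

/-- The Sylow subgroup is elementary abelian. -/
structure Elem (P : Sylow 2 X) : Prop where
  comm : ∀ a ∈ (P : Subgroup X), ∀ b ∈ (P : Subgroup X), a * b = b * a
  sq : ∀ a ∈ (P : Subgroup X), a * a = 1

theorem Elem.isMulCommutative {P : Sylow 2 X} (hE : Elem P) :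
    IsMulCommutative (P : Subgroup X) :=
  ⟨⟨fun a b => Subtype.ext (hE.comm a a.2 b b.2)⟩⟩

theorem Elem.le_centralizer {P : Sylow 2 X} (hE : Elem P) :
    (P : Subgroup X) ≤ centralizer ((P : Subgroup X) : Set X) := fun a ha =>
  mem_centralizer_iff.2 fun b hb => hE.comm b hb a ha

variable [Fact (Nat.Prime 2)]

theorem centralizer_le (P : Sylow 2 X) (hE : Elem P) :
    centralizer ((P : Subgroup X) : Set X) ≤
      oc (centralizer ((P : Subgroup X) : Set X)) ⊔ (P : Subgroup X) := by
  set C := centralizer ((P : Subgroup X) : Set X) with hC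
  obtain ⟨Q, K, hK, hc⟩ :=
    Transfer.hasNormalPComplement_of_normalizer_le_centralizer (P.subtype hE.le_centralizer)
      fun c _ => mem_centralizer_iff.2 fun y hy => Subtype.ext (mem_centralizer_iff.1 c.2 y hy)
  have hKodd : Odd (Nat.card K) := by
    refine Nat.not_even_iff_odd.1 fun he => Q.not_dvd_index ?_
    rw [hc.index_eq_card]
    exact even_iff_two_dvd.1 he
  intro x hx
  obtain ⟨⟨a, b⟩, hab⟩ := hc.2 (⟨x, hx⟩ : C)
  have hb : ((b : C) : X) ∈ (P : Subgroup X) := by
    have hQ : Q = P.subtype hE.le_centralizer := by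
      obtain ⟨c, hc'⟩ := MulAction.exists_smul_eq C (P.subtype hE.le_centralizer) Q
      rw [← hc']
      refine Sylow.smul_eq_iff_mem_normalizer.2 (mem_normalizer_iff.2 fun x => ?_)
      have hcomm : ∀ y ∈ ((P.subtype hE.le_centralizer : Sylow 2 C) : Subgroup C), c * y = y * c :=
        fun y hy => Subtype.ext (mem_centralizer_iff.1 c.2 (y : X) hy).symm
      constructor
      · intro hy
        rwa [hcomm x hy, mul_inv_cancel_right]
      · intro hy
        have h := hcomm _ hy
        rw [inv_mul_cancel_right] at h
        have h2 : c * x * c⁻¹ = x := mul_left_cancel h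
        rwa [h2] at hy
    have key : ∀ w : C, w ∈ (Q : Subgroup C) → (w : X) ∈ (P : Subgroup X) := by
      rw [hQ]
      exact fun w hw => hw
    exact key b b.2
  rw [show x = ((a : C) : X) * ((b : C) : X) from congrArg Subtype.val hab.symm]
  exact mul_mem (mem_sup_left ⟨a, (PCore.le_oddCore (N := K) hKodd) a.2, rfl⟩)
    (mem_sup_right hb)

/-- With `X = O(X) N(P)` every subgroup of odd order normalised by `P` is in `O(X)`. -/
theorem odd_le_core (P : Sylow 2 X) (hE : Elem P)
    (hgen : oddCore X ⊔ normalizer ((P : Subgroup X) : Set X) = ⊤) (D : Subgroup X)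
    (hD : Odd (Nat.card D)) (hDP : (P : Subgroup X) ≤ normalizer (D : Set X)) :
    D ≤ oddCore X := by
  set O := oddCore X with hO
  set N := normalizer ((P : Subgroup X) : Set X) with hN
  have hOodd : Odd (Nat.card O) := PCore.odd_card_oddCore
  have hcore : oc (centralizer ((P : Subgroup X) : Set X)) ≤ O := by
    set K := oc (centralizer ((P : Subgroup X) : Set X)) with hK
    have hKN : ∀ n ∈ N, ∀ k ∈ K, n * k * n⁻¹ ∈ K := by
      intro n hn
      refine oc_equivariant n fun h => ?_
      simp only [mem_centralizer_iff]
      constructor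
      · intro hh y hy
        have h1 := hh (n⁻¹ * y * n) (by
          have h2 := (mem_normalizer_iff.1 (inv_mem hn) y).1 (SetLike.mem_coe.1 hy)
          rwa [inv_inv] at h2)
        calc y * (n * h * n⁻¹) = n * (n⁻¹ * y * n * h) * n⁻¹ := by group
          _ = n * (h * (n⁻¹ * y * n)) * n⁻¹ := by rw [h1]
          _ = n * h * n⁻¹ * y := by group
      · intro hh y hy
        have h1 := hh (n * y * n⁻¹) ((mem_normalizer_iff.1 hn y).1 hy)
        calc y * h = n⁻¹ * (n * y * n⁻¹ * (n * h * n⁻¹)) * n := by group
          _ = n⁻¹ * (n * h * n⁻¹ * (n * y * n⁻¹)) * n := by rw [h1]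
          _ = h * y := by group
    haveI : (O ⊔ K).Normal := by
      refine normalizer_eq_top_iff.1 (top_le_iff.1 ?_)
      rw [← hgen]
      refine sup_le (le_sup_left.trans le_normalizer) fun n hn => ?_
      have key : ∀ m ∈ N, ∀ x ∈ O ⊔ K, m * x * m⁻¹ ∈ O ⊔ K := by
        intro m hm x hx
        obtain ⟨o, ho, k, hk, rfl⟩ : x ∈ (O : Set X) * (K : Set X) := by
          rwa [← Subgroup.normal_mul]
        rw [show m * (o * k) * m⁻¹ = m * o * m⁻¹ * (m * k * m⁻¹) by group]
        exact mul_mem (mem_sup_left ((inferInstance : O.Normal).conj_mem o ho m))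
          (mem_sup_right (hKN m hm k hk))
      rw [mem_normalizer_iff]
      refine fun x => ⟨key n hn x, fun h => ?_⟩
      simpa [mul_assoc] using key n⁻¹ (inv_mem hn) _ h
    exact le_sup_right.trans (PCore.le_oddCore
      ((hOodd.mul (odd_oc _)).of_dvd_nat (PCore.card_sup_dvd O K)))
  intro d hd
  obtain ⟨o, ho, n, hn, rfl⟩ : d ∈ (O : Set X) * (N : Set X) := by
    rw [← Subgroup.normal_mul, hgen]; trivial
  let f := QuotientGroup.mk' O
  have hker : ∀ {x}, f x = 1 → x ∈ O := fun {x} h => (QuotientGroup.eq_one_iff x).1 h
  have hfo : f o = 1 := (QuotientGroup.eq_one_iff o).2 ho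
  have hPO : ∀ v ∈ (P : Subgroup X), f v = 1 → v = 1 := fun v hv h =>
    eq_one_of_orderOf hOodd (congrArg Subtype.val (pow_card_eq_one' (x := (⟨v, hker h⟩ : O))))
      (hE.sq v hv)
  have hnC : n ∈ centralizer ((P : Subgroup X) : Set X) := by
    rw [mem_centralizer_iff]
    intro v hv
    set e := o * n * v * (o * n)⁻¹ * v⁻¹ with he
    set e' := n * v * n⁻¹ * v⁻¹ with he'
    have heD : e ∈ D := by
      have : v * (o * n)⁻¹ * v⁻¹ ∈ D := (mem_normalizer_iff.1 (hDP hv) _).1 (inv_mem hd)
      have h2 := mul_mem hd this
      convert h2 using 1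
      rw [he]; group
    have he'P : e' ∈ (P : Subgroup X) :=
      mul_mem ((mem_normalizer_iff.1 hn v).1 hv) (inv_mem hv)
    have hee : f e = f e' := by simp only [he, he', map_mul, map_inv, hfo, one_mul]
    have h1 : f e' = 1 := eq_one_of_orderOf hD
      (by rw [← hee, ← map_pow, show e ^ Nat.card D = 1 from
        congrArg Subtype.val (pow_card_eq_one' (x := (⟨e, heD⟩ : D))), map_one])
      (by rw [← map_mul, hE.sq _ he'P, map_one])
    have h2 := hPO e' he'P h1
    rw [he', mul_inv_eq_one, mul_inv_eq_iff_eq_mul] at h2
    exact h2.symm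
  obtain ⟨k, hk, v, hv, hkv⟩ : n ∈ ((O : Subgroup X) : Set X) * ((P : Subgroup X) : Set X) := by
    rw [← Subgroup.normal_mul]
    exact (sup_le_sup_right hcore _) (centralizer_le P hE hnC)
  have hfv : f (o * n) = f v := by
    rw [← hkv, map_mul, map_mul, hfo, (QuotientGroup.eq_one_iff k).2 hk |> fun h =>
      (show f k = 1 from h), one_mul, one_mul]
  have : f (o * n) = 1 := eq_one_of_orderOf hD
    (by rw [← map_pow, show (o * n) ^ Nat.card D = 1 from
      congrArg Subtype.val (pow_card_eq_one' (x := (⟨o * n, hd⟩ : D))), map_one])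
    (by rw [hfv, ← map_mul, hE.sq v hv, map_one])
  exact hker this

/-- The arithmetic hypothesis on the automizer. -/
def Small (P : Sylow 2 X) : Prop :=
  ∀ Y : Subgroup X, centralizer ((P : Subgroup X) : Set X) ≤ Y →
    Y ≤ normalizer ((P : Subgroup X) : Set X) → Y ≠ centralizer ((P : Subgroup X) : Set X) →
    4 * Nat.card ↥((P : Subgroup X) ⊓ centralizer (Y : Set X)) < Nat.card (P : Subgroup X) ∧
      ((centralizer ((P : Subgroup X) : Set X)).relIndex Y + 1) *
        Nat.card ↥((P : Subgroup X) ⊓ centralizer (Y : Set X)) < Nat.card (P : Subgroup X)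

theorem exists_normalizer_conj (P : Sylow 2 X) (hE : Elem P) {a g : X}
    (ha : a ∈ (P : Subgroup X)) (hg : g * a * g⁻¹ ∈ (P : Subgroup X)) :
    ∃ n ∈ normalizer ((P : Subgroup X) : Set X), g * a * g⁻¹ = n * a * n⁻¹ := by
  haveI := hE.isMulCommutative
  obtain ⟨n, hn, he⟩ := P.conj_eq_normalizer_conj_of_mem a g⁻¹ ha
    (show g⁻¹⁻¹ * a * g⁻¹ ∈ _ by rwa [inv_inv])
  exact ⟨n⁻¹, inv_mem hn, by simpa using he⟩

theorem exists_conj_mem (P : Sylow 2 X) {M : Subgroup X} (hPM : (P : Subgroup X) ≤ M) {v : X}
    (hv : v ∈ M) (hv2 : orderOf v = 2) : ∃ m ∈ M, m * v * m⁻¹ ∈ (P : Subgroup X) := by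
  obtain ⟨U, hU⟩ := IsPGroup.exists_le_sylow (p := 2) (P := zpowers (⟨v, hv⟩ : M))
    (IsPGroup.of_card (n := 1) (by rw [Nat.card_zpowers, Subgroup.orderOf_mk, hv2, pow_one]))
  obtain ⟨m, hm⟩ := MulAction.exists_smul_eq M U (P.subtype hPM)
  refine ⟨m, m.2, ?_⟩
  have h1 : m * ⟨v, hv⟩ * m⁻¹ ∈ ((P.subtype hPM : Sylow 2 M) : Subgroup M) := by
    rw [← hm, Sylow.coe_subgroup_smul]
    exact smul_mem_pointwise_smul _ _ _ (hU (mem_zpowers _))
  exact h1

theorem exists_commuting_of_not_isConj {a c : X} (ha : a * a = 1) (hc : c * c = 1)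
    (hn : ¬ IsConj a c) : ∃ z : X, orderOf z = 2 ∧ Commute z a ∧ Commute z c := by
  have hinv : a * (a * c) * a = (a * c)⁻¹ := by
    rw [mul_inv_rev, inv_eq_of_mul_eq_one_right ha, inv_eq_of_mul_eq_one_right hc, ← mul_assoc,
      ha, one_mul]
  set x := a * c with hx
  have hxpow : ∀ i : ℕ, a * x ^ i * a = (x ^ i)⁻¹ := by
    intro i
    induction i with
    | zero => simpa using ha
    | succ i ih =>
      calc a * x ^ (i + 1) * a = a * x ^ i * a * (a * x * a) := by
            rw [pow_succ]
            calc a * (x ^ i * x) * a = a * x ^ i * 1 * x * a := by group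
              _ = a * x ^ i * (a * a) * x * a := by rw [ha]
              _ = a * x ^ i * a * (a * x * a) := by group
        _ = (x ^ i)⁻¹ * x⁻¹ := by rw [ih, hinv]
        _ = (x ^ (i + 1))⁻¹ := by rw [pow_succ' x i, mul_inv_rev x (x ^ i)]
  obtain ⟨i, hi⟩ | ⟨i, hi⟩ := Nat.even_or_odd (orderOf x)
  · have hne : x ^ i ≠ 1 := fun h => by
      have h1 := Nat.le_of_dvd (by
        rcases Nat.eq_zero_or_pos i with rfl | h0
        · have := orderOf_pos x; omega
        · exact h0) (orderOf_dvd_of_pow_eq_one h)
      have := orderOf_pos x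
      omega
    have h2 : x ^ i * x ^ i = 1 := by rw [← pow_add, ← hi, pow_orderOf_eq_one]
    refine ⟨x ^ i, orderOf_eq_prime (by rw [pow_two]; exact h2) hne, ?_, ?_⟩
    · have h3 := hxpow i
      rw [inv_eq_of_mul_eq_one_right h2] at h3
      calc x ^ i * a = a * x ^ i * a * a := by rw [h3]
        _ = a * x ^ i := by rw [mul_assoc, ha, mul_one]
    · have h3 := hxpow i
      rw [inv_eq_of_mul_eq_one_right h2] at h3
      have hca : Commute (x ^ i) a := by
        calc x ^ i * a = a * x ^ i * a * a := by rw [h3]
          _ = a * x ^ i := by rw [mul_assoc, ha, mul_one]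
      have hce : c = a * x := by rw [hx, ← mul_assoc, ha, one_mul]
      rw [hce]
      exact hca.mul_right ((Commute.refl x).pow_left i)
  · refine absurd (isConj_iff.2 ⟨x ^ i, ?_⟩) hn
    have h4 : (x ^ i)⁻¹ = a * x ^ i * a := (hxpow i).symm
    calc x ^ i * a * (x ^ i)⁻¹ = x ^ i * (a * a) * x ^ i * a := by rw [h4]; group
      _ = x ^ (2 * i) * a := by rw [ha, mul_one, ← pow_add, two_mul]
      _ = x⁻¹ * a := by
          congr 1
          rw [eq_inv_iff_mul_eq_one, ← pow_succ, ← hi, pow_orderOf_eq_one]
      _ = c := by
          rw [hx, mul_inv_rev, inv_eq_of_mul_eq_one_right ha, inv_eq_of_mul_eq_one_right hc,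
            mul_assoc, ha, mul_one]

theorem small_subtype (P : Sylow 2 X) {H : Subgroup X} (hPH : (P : Subgroup X) ≤ H)
    (hCH : centralizer ((P : Subgroup X) : Set X) ≤ H)
    (hS : ∀ Y : Subgroup X, Y ≤ H → centralizer ((P : Subgroup X) : Set X) ≤ Y →
      Y ≤ normalizer ((P : Subgroup X) : Set X) → Y ≠ centralizer ((P : Subgroup X) : Set X) →
      4 * Nat.card ↥((P : Subgroup X) ⊓ centralizer (Y : Set X)) < Nat.card (P : Subgroup X) ∧
        ((centralizer ((P : Subgroup X) : Set X)).relIndex Y + 1) *
          Nat.card ↥((P : Subgroup X) ⊓ centralizer (Y : Set X)) < Nat.card (P : Subgroup X)) :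
    Small (P.subtype hPH) := by
  set N := normalizer ((P : Subgroup X) : Set X) with hN
  set C := centralizer ((P : Subgroup X) : Set X) with hC
  intro Y hCY hYN hne
  have hcent : C.subgroupOf H =
      centralizer (((P.subtype hPH : Sylow 2 H) : Subgroup H) : Set H) := by
    ext x
    simp only [mem_subgroupOf, hC, mem_centralizer_iff]
    exact ⟨fun h y hy => Subtype.ext (h y hy),
      fun h y hy => congrArg Subtype.val (h ⟨y, hPH hy⟩ hy)⟩
  rw [← hcent] at hCY hne
  set Y' := Y.map H.subtype with hY'
  have hCY' : C ≤ Y' := fun x hx => ⟨⟨x, hCH hx⟩, hCY hx, rfl⟩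
  have hY'N : Y' ≤ N := by
    rintro _ ⟨y, hy, rfl⟩
    rw [hN, mem_normalizer_iff]
    intro x
    have h1 := mem_normalizer_iff.1 (hYN hy)
    constructor
    · intro hx
      exact (h1 ⟨x, hPH hx⟩).1 hx
    · intro hx
      have hxH : x ∈ H := by
        have := mul_mem (mul_mem (inv_mem y.2) (hPH hx)) y.2
        simpa [mul_assoc] using this
      exact (h1 ⟨x, hxH⟩).2 hx
  have hne' : Y' ≠ C := fun e => hne (by
    rw [← e, hY', subgroupOf, comap_map_eq_self_of_injective H.subtype_injective])
  obtain ⟨h1, h2⟩ := hS Y' (map_subtype_le Y) hCY' hY'N hne'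
  have hcardP : Nat.card ((P.subtype hPH : Sylow 2 H) : Subgroup H) =
      Nat.card (P : Subgroup X) := Nat.card_congr (subgroupOfEquivOfLe hPH).toEquiv
  have hfix : Nat.card ↥(((P.subtype hPH : Sylow 2 H) : Subgroup H) ⊓
        centralizer (Y : Set H)) =
      Nat.card ↥((P : Subgroup X) ⊓ centralizer (Y' : Set X)) := by
    rw [← card_map_of_injective (K := ((P.subtype hPH : Sylow 2 H) : Subgroup H) ⊓
      centralizer (Y : Set H)) H.subtype_injective]
    congr 2
    ext x
    simp only [mem_map, mem_inf, mem_centralizer_iff]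
    constructor
    · rintro ⟨x, ⟨hxP, hxc⟩, rfl⟩
      refine ⟨hxP, ?_⟩
      rintro _ ⟨y, hy, rfl⟩
      exact congrArg Subtype.val (hxc y hy)
    · rintro ⟨hxP, hxc⟩
      exact ⟨⟨x, hPH hxP⟩, ⟨hxP, fun y hy => Subtype.ext (hxc y ⟨y, hy, rfl⟩)⟩, rfl⟩
  have hrel : (C.subgroupOf H).relIndex Y = C.relIndex Y' := by
    rw [hY', ← relIndex_map_map_of_injective (C.subgroupOf H) Y H.subtype_injective,
      map_subgroupOf_eq_of_le hCH]
  rw [← hcent, hfix, hcardP, hrel]
  exact ⟨h1, h2⟩

theorem twoClosed_aux : ∀ (n : ℕ) (X : Type u) [Group X] [Finite X], Nat.card X = n →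
    ∀ P : Sylow 2 X, Elem P → Small P →
      oddCore X ⊔ normalizer ((P : Subgroup X) : Set X) = ⊤ := by
  intro n
  induction n using Nat.strong_induction_on with
  | _ n ih =>
    intro X _ _ hn P hE hS
    classical
    haveI hcomm := hE.isMulCommutative
    set N := normalizer ((P : Subgroup X) : Set X) with hN
    set C := centralizer ((P : Subgroup X) : Set X) with hC
    set O := oddCore X with hO
    have hCN : C ≤ N := centralizer_le_normalizer _
    have hPN : (P : Subgroup X) ≤ N := le_normalizer
    have hPC : (P : Subgroup X) ≤ C := hE.le_centralizer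
    -- the automizer has odd order
    have hodd : Odd (C.relIndex N) := by
      refine Nat.not_even_iff_odd.1 fun he => P.not_dvd_index ?_
      exact ((even_iff_two_dvd.1 he).trans (relIndex_dvd_index_of_le hCN)).trans
        (index_dvd_of_le hPC)
    have hproper : ∀ H : Subgroup X, H ≠ ⊤ → (P : Subgroup X) ≤ H → C ≤ H →
        oddCore H ⊔ normalizer ((((P : Subgroup X)).subgroupOf H : Subgroup H) : Set H) = ⊤ := by
      intro H hH hPH hCH
      have hcard : Nat.card H < n := hn ▸ ZStar.card_lt_of_ne_top hH
      refine ih _ hcard H rfl (P.subtype hPH)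
        ⟨fun a ha b hb => Subtype.ext (hE.comm a ha b hb),
          fun a ha => Subtype.ext (hE.sq a ha)⟩ ?_
      exact small_subtype P hPH hCH fun Y _ hCY hYN hne => hS Y hCY hYN hne
    by_cases hZ : ∃ z ∈ (P : Subgroup X), z ≠ 1 ∧ ∀ g ∈ N, g * z * g⁻¹ = z
    · obtain ⟨z, hzP, hz1, hzN⟩ := hZ
      have hz2 : orderOf z = 2 := orderOf_eq_prime (by rw [pow_two]; exact hE.sq z hzP) hz1
      have hiso : IsIsolatedInvolution z := ZStar.isolated_of_sylow hz2 hzP fun g hg => by
        obtain ⟨m, hm, he⟩ := exists_normalizer_conj P hE hzP hg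
        rw [he, hzN m hm]
      have hzstar := ZStar.inZStar hiso
      set Z := zpowers z with hZdef
      have hZ2 : Nat.card Z = 2 := by rw [Nat.card_zpowers, hz2]
      have hZP : Z ≤ (P : Subgroup X) := zpowers_le.2 hzP
      set H := centralizer ({z} : Set X) with hH
      have hPH : (P : Subgroup X) ≤ H := fun a ha =>
        mem_centralizer_singleton_iff.2 (hE.comm a ha z hzP)
      have hCH : C ≤ H := fun a ha =>
        mem_centralizer_singleton_iff.2 (mem_centralizer_iff.1 ha z hzP).symm
      -- `X = O C(z)`
      have hcover : ∀ g : X, g ∈ O ⊔ H := by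
        intro g
        haveI : Odd (Nat.card O) → True := fun _ => trivial
        set t := g * z * g⁻¹ * z⁻¹ with ht
        have htO : t ∈ O := hzstar g
        -- `g z g⁻¹ = t z`, an involution in `O ⟨z⟩`
        obtain ⟨k, hk, hkz⟩ : ∃ k ∈ O, k * z * k⁻¹ = t * z := by
          have hzz : z⁻¹ = z := inv_eq_of_mul_eq_one_right (hE.sq z hzP)
          have htz : (t * z) * (t * z) = 1 := by
            rw [show t * z = g * z * g⁻¹ by rw [ht, inv_mul_cancel_right]]
            calc g * z * g⁻¹ * (g * z * g⁻¹) = g * (z * z) * g⁻¹ := by group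
              _ = 1 := by rw [hE.sq z hzP]; group
          obtain ⟨i, hi⟩ := Nat.odd_iff.1 (show Odd (Nat.card O) from PCore.odd_card_oddCore) |>
            fun h => (⟨Nat.card O / 2, by omega⟩ : ∃ i, Nat.card O = 2 * i + 1)
          have htn : t ^ (2 * i + 1) = 1 := by
            rw [← hi]; exact congrArg Subtype.val (pow_card_eq_one' (x := (⟨t, htO⟩ : O)))
          have hinv : z * t * z = t⁻¹ := by
            refine eq_inv_of_mul_eq_one_left ?_
            calc z * t * z * t = z * (t * z * (t * z)) * z⁻¹ := by group
              _ = 1 := by rw [htz, mul_one, mul_inv_cancel]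
          have hinv' : z * t ^ (i + 1) * z = (t ^ (i + 1))⁻¹ := by
            have : z * t * z⁻¹ = t⁻¹ := by rw [hzz]; exact hinv
            rw [← inv_pow, ← this, conj_pow, hzz]
          refine ⟨t ^ (i + 1), pow_mem htO _, ?_⟩
          calc t ^ (i + 1) * z * (t ^ (i + 1))⁻¹
              = t ^ (i + 1) * (z * z) * t ^ (i + 1) * z := by rw [← hinv']; group
            _ = t ^ (i + 1 + (i + 1)) * z := by rw [hE.sq z hzP, mul_one, ← pow_add]
            _ = t * z := by
              rw [show i + 1 + (i + 1) = 2 * i + 1 + 1 by omega, pow_succ, htn, one_mul]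
        have hmem : k⁻¹ * g ∈ H := by
          rw [hH, mem_centralizer_singleton_iff]
          have e1 : k * z * k⁻¹ = g * z * g⁻¹ := by rw [hkz, ht, inv_mul_cancel_right]
          calc k⁻¹ * g * z = k⁻¹ * (g * z * g⁻¹) * g := by group
            _ = k⁻¹ * (k * z * k⁻¹) * g := by rw [e1]
            _ = z * (k⁻¹ * g) := by group
        rw [show g = k * (k⁻¹ * g) by group]
        exact mul_mem (mem_sup_left hk) (mem_sup_right hmem)
      by_cases hHtop : H = ⊤
      · -- `z` is central: pass to the quotient
        have hzc : ∀ g : X, g * z = z * g := fun g =>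
          mem_centralizer_singleton_iff.1 (hHtop ▸ mem_top g : g ∈ H)
        haveI : Z.Normal := ⟨fun a ha g => by
          obtain ⟨j, rfl⟩ := ha
          have : Commute g (z ^ j) := (Commute.zpow_right (hzc g : Commute g z) j)
          rw [this.eq, mul_inv_cancel_right]; exact ⟨j, rfl⟩⟩
        set π := QuotientGroup.mk' Z with hπ
        have hπs : Function.Surjective π := QuotientGroup.mk'_surjective Z
        let P' : Sylow 2 (X ⧸ Z) := P.mapSurjective hπs
        have hP'c : (P' : Subgroup (X ⧸ Z)) = (P : Subgroup X).map π :=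
          Sylow.coe_mapSurjective hπs P
        have hPcomap : ((P' : Subgroup (X ⧸ Z))).comap π = (P : Subgroup X) := by
          rw [hP'c, comap_map_eq, QuotientGroup.ker_mk', sup_eq_left.2 hZP]
        have hNcomap : ∀ g, π g ∈ normalizer ((P' : Subgroup (X ⧸ Z)) : Set (X ⧸ Z)) → g ∈ N := by
          intro g hg
          rw [hN, mem_normalizer_iff]
          intro a
          rw [← hPcomap, mem_comap, mem_comap, map_mul, map_mul, map_inv]
          exact mem_normalizer_iff.1 hg (π a)
        -- elements of `N` acting trivially modulo `Z` centralise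
        have hstab : ∀ g ∈ N, ∀ x ∈ (P : Subgroup X), π g * π x * (π g)⁻¹ = π x →
            g * x * g⁻¹ = x := by
          intro g hg x hx he
          have hd : g * x * g⁻¹ * x⁻¹ ∈ Z := by
            rw [← QuotientGroup.eq_one_iff]
            show π (g * x * g⁻¹ * x⁻¹) = 1
            rw [map_mul, map_mul, map_mul, map_inv, map_inv, he, mul_inv_cancel]
          set d := g * x * g⁻¹ * x⁻¹ with hdd
          have hd2 : d * d = 1 := hE.sq d (hZP hd)
          have hgd : Commute g d := by
            obtain ⟨j, hj⟩ := hd
            rw [← hj]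
            exact (Commute.zpow_right (hzc g : Commute g z) j)
          have hgx : g * x * g⁻¹ = d * x := by rw [hdd, inv_mul_cancel_right]
          have hpow : ∀ i : ℕ, g ^ i * x * (g ^ i)⁻¹ = d ^ i * x := by
            intro i
            induction i with
            | zero => simp
            | succ i ih =>
              calc g ^ (i + 1) * x * (g ^ (i + 1))⁻¹ = g * (g ^ i * x * (g ^ i)⁻¹) * g⁻¹ := by
                    rw [pow_succ']; group
                _ = g * d ^ i * x * g⁻¹ := by rw [ih]; group
                _ = d ^ i * (g * x * g⁻¹) := by rw [(hgd.pow_right i).eq]; group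
                _ = d ^ (i + 1) * x := by rw [hgx, pow_succ]; group
          have hm : g ^ C.relIndex N ∈ C := by
            haveI : (C.subgroupOf N).Normal := inferInstance
            have h3 := Subgroup.pow_index_mem (C.subgroupOf N) ⟨g, hg⟩
            exact h3
          have h4 := hpow (C.relIndex N)
          rw [← mem_centralizer_iff.1 hm x hx, mul_inv_cancel_right] at h4
          have h5 : d ^ C.relIndex N = 1 := by
            calc d ^ C.relIndex N = d ^ C.relIndex N * x * x⁻¹ := by group
              _ = 1 := by rw [← h4, mul_inv_cancel]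
          rw [hgx, eq_one_of_orderOf hodd h5 hd2, one_mul]
        have hlt : Nat.card (X ⧸ Z) < n := hn ▸ ZStar.card_quotient_lt (fun h => hz1 (by
          have : z ∈ (⊥ : Subgroup X) := h ▸ mem_zpowers z
          exact mem_bot.1 this))
        have hih := ih _ hlt (X ⧸ Z) rfl P'
          ⟨fun a ha b hb => by
            rw [hP'c] at ha hb
            obtain ⟨a, ha', rfl⟩ := ha; obtain ⟨b, hb', rfl⟩ := hb
            rw [← map_mul, hE.comm a ha' b hb', map_mul],
           fun a ha => by
            rw [hP'c] at ha
            obtain ⟨a, ha', rfl⟩ := ha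
            rw [← map_mul, hE.sq a ha', map_one]⟩ ?_
        · -- pull back
          set L := (oddCore (X ⧸ Z)).comap π with hL
          haveI : L.Normal := inferInstance
          have hLZ : Z ≤ L := fun a ha => by
            rw [hL, mem_comap, show π a = 1 from (QuotientGroup.eq_one_iff a).2 ha]
            exact one_mem _
          have hLle : L ≤ O ⊔ N := by
            intro a ha
            set m := Nat.card (oddCore (X ⧸ Z)) with hm
            have hma : a ^ m ∈ Z := by
              rw [← QuotientGroup.eq_one_iff]
              show π (a ^ m) = 1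
              rw [map_pow]
              exact congrArg Subtype.val (pow_card_eq_one' (x := (⟨π a, ha⟩ : oddCore (X ⧸ Z))))
            -- `z`-twist to an element of odd order
            obtain ⟨w, hwZ, hwo⟩ : ∃ w ∈ Z, (w * a) ^ m = 1 := by
              refine ⟨a ^ m, hma, ?_⟩
              have hc : Commute (a ^ m) a := (Commute.refl a).pow_left m
              rw [hc.mul_pow]
              have h2 : a ^ m * a ^ m = 1 := hE.sq _ (hZP hma)
              obtain ⟨i, hi⟩ := (PCore.odd_card_oddCore (G := X ⧸ Z))
              rw [← hm] at hi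
              rw [hi] at h2 ⊢
              rw [pow_succ (a ^ (2 * i + 1)), pow_mul, pow_two, h2, one_pow, one_mul, h2]
            rw [show a = w⁻¹ * (w * a) by group]
            refine mul_mem (mem_sup_right (hPN (hZP (inv_mem hwZ)))) (mem_sup_left ?_)
            -- the odd elements of `L`
            obtain ⟨Q, K, hK, hcK⟩ := Transfer.hasNormalPComplement_of_normalizer_le_centralizer
              (G := L) (Sylow.ofCard (Z.subgroupOf L) (by
                rw [Nat.card_congr (subgroupOfEquivOfLe hLZ).toEquiv, hZ2]
                have h6 : Nat.card L ∣ 2 * m := by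
                  have := PCore.card_comap_dvd π (oddCore (X ⧸ Z))
                  rwa [QuotientGroup.ker_mk', hZ2] at this
                have h7 : 2 ∣ Nat.card L := hZ2 ▸ card_dvd_of_le hLZ
                have h8 : (Nat.card L).factorization 2 ≤ 1 := by
                  refine (Nat.factorization_le_iff_dvd Nat.card_pos.ne'
                    (mul_ne_zero two_ne_zero Nat.card_pos.ne')).2 h6 2
                    |>.trans ?_
                  rw [Nat.factorization_mul two_ne_zero Nat.card_pos.ne', Finsupp.add_apply,
                    Nat.Prime.factorization_self Nat.prime_two,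
                    Nat.factorization_eq_zero_of_not_dvd (fun h =>
                      Nat.not_even_iff_odd.2 PCore.odd_card_oddCore (even_iff_two_dvd.2 h))]
                have h9 := Nat.Prime.factorization_pos_of_dvd Nat.prime_two Nat.card_pos.ne' h7
                rw [show (Nat.card L).factorization 2 = 1 by omega, pow_one]))
              (fun c _ => mem_centralizer_iff.2 fun y hy => Subtype.ext (by
                obtain ⟨j, hj⟩ := (hy : (y : X) ∈ Z)
                show (y : X) * c = c * y
                rw [show (y : X) = z ^ j from hj.symm]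
                exact ((Commute.zpow_right (hzc c : Commute (c : X) z) j)).eq.symm))
            haveI := hK
            have hKodd : Odd (Nat.card K) := by
              refine Nat.not_even_iff_odd.1 fun he => Q.not_dvd_index ?_
              rw [hcK.index_eq_card]
              exact even_iff_two_dvd.1 he
            have hwL : w * a ∈ L := mul_mem (hLZ hwZ) ha
            have hwK : (⟨w * a, hwL⟩ : L) ∈ K := by
              rw [← QuotientGroup.eq_one_iff]
              refine orderOf_eq_one_iff.1 (Nat.eq_one_of_dvd_coprimes (a := m)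
                (b := Nat.card (L ⧸ K)) ?_ ?_ (orderOf_dvd_natCard _))
              · rw [← index_eq_card, hcK.symm.index_eq_card]
                obtain ⟨e, he⟩ := IsPGroup.iff_card.1 Q.2
                rw [he]
                exact (Nat.coprime_two_right.2 PCore.odd_card_oddCore).pow_right e
              · refine orderOf_dvd_of_pow_eq_one ?_
                rw [← QuotientGroup.mk_pow, QuotientGroup.eq_one_iff,
                  show (⟨w * a, hwL⟩ : L) ^ m = 1 from Subtype.ext hwo]
                exact one_mem K
            have : oc L ≤ O := by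
              haveI : (oc L).Normal := by
                rw [oc]; infer_instance
              exact PCore.le_oddCore (odd_oc L)
            exact this ⟨_, PCore.le_oddCore hKodd hwK, rfl⟩
          rw [eq_top_iff]
          intro g _
          obtain ⟨a, ha, b, hb, hab⟩ : π g ∈ ((oddCore (X ⧸ Z) : Subgroup (X ⧸ Z)) : Set (X ⧸ Z)) *
              ((normalizer ((P' : Subgroup (X ⧸ Z)) : Set (X ⧸ Z)) : Subgroup (X ⧸ Z)) :
                Set (X ⧸ Z)) := by
            rw [← Subgroup.normal_mul, hih]; trivial
          obtain ⟨b, rfl⟩ := hπs b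
          have hgb : g * b⁻¹ ∈ L := by
            rw [hL, mem_comap, map_mul, ← hab, map_inv, mul_inv_cancel_right]
            exact ha
          rw [show g = g * b⁻¹ * b by group]
          exact mul_mem (hLle hgb) (mem_sup_right (hNcomap b hb))
        · intro Y hCY hYN hne
          set Y' := Y.comap π with hY'
          have hY'N : Y' ≤ N := fun g hg => hNcomap g (hYN hg)
          have hCY' : C ≤ Y' := fun g hg => hCY (by
            rw [mem_centralizer_iff, hP'c]
            rintro _ ⟨x, hx, rfl⟩
            rw [← map_mul, mem_centralizer_iff.1 hg x hx, map_mul])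
          have hCeq : (centralizer ((P' : Subgroup (X ⧸ Z)) : Set (X ⧸ Z))).comap π ⊓ N = C := by
            ext g
            constructor
            · rintro ⟨hg, hgN⟩
              refine mem_centralizer_iff.2 fun x hx => ?_
              have h1 := mem_centralizer_iff.1 hg (π x) (hP'c ▸ mem_map_of_mem π hx)
              have h2 := hstab g hgN x hx (by rw [← h1, mul_inv_cancel_right])
              exact (mul_inv_eq_iff_eq_mul.1 h2).symm
            · intro hg
              refine ⟨?_, hCN hg⟩
              show π g ∈ centralizer _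
              rw [mem_centralizer_iff, hP'c]
              rintro _ ⟨x, hx, rfl⟩
              rw [← map_mul, mem_centralizer_iff.1 hg x hx, map_mul]
          have hne' : Y' ≠ C := by
            intro e
            apply hne
            refine le_antisymm ?_ hCY
            intro y hy
            obtain ⟨g, rfl⟩ := hπs y
            have hgC : g ∈ C := e ▸ hy
            rw [← hCeq] at hgC
            exact hgC.1
          obtain ⟨h1, h2⟩ := hS Y' hCY' hY'N hne'
          have hcardP : 2 * Nat.card (P' : Subgroup (X ⧸ Z)) = Nat.card (P : Subgroup X) := by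
            rw [← card_mul_index (Z.subgroupOf (P : Subgroup X)),
              Nat.card_congr (subgroupOfEquivOfLe hZP).toEquiv, hZ2, hP'c]
            congr 1
            have h3 : (Z.subgroupOf (P : Subgroup X)) = (π.domRestrict (P : Subgroup X)).ker := by
              ext x
              rw [MonoidHom.mem_ker, MonoidHom.domRestrict_apply, mem_subgroupOf]
              exact (QuotientGroup.eq_one_iff _).symm
            rw [h3, index_ker, MonoidHom.domRestrict_range]
          have hfix : 2 * Nat.card ↥((P' : Subgroup (X ⧸ Z)) ⊓ centralizer (Y : Set (X ⧸ Z))) =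
              Nat.card ↥((P : Subgroup X) ⊓ centralizer (Y' : Set X)) := by
            set A := (P : Subgroup X) ⊓ centralizer (Y' : Set X) with hA
            have hZA : Z ≤ A := le_inf hZP fun a ha => mem_centralizer_iff.2 fun y _ => by
              obtain ⟨j, rfl⟩ := ha
              exact (Commute.zpow_right (hzc y : Commute y z) j).eq
            have hmap : A.map π = (P' : Subgroup (X ⧸ Z)) ⊓ centralizer (Y : Set (X ⧸ Z)) := by
              ext y
              simp only [hP'c, mem_map, mem_inf, mem_centralizer_iff, hA]
              constructor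
              · rintro ⟨x, ⟨hxP, hxY⟩, rfl⟩
                refine ⟨⟨x, hxP, rfl⟩, fun b hb => ?_⟩
                obtain ⟨b, rfl⟩ := hπs b
                rw [← map_mul, hxY b hb, map_mul]
              · rintro ⟨⟨x, hxP, rfl⟩, hxY⟩
                refine ⟨x, ⟨hxP, fun b hb => ?_⟩, rfl⟩
                have h3 := hstab b (hY'N hb) x hxP (by
                  rw [hxY (π b) hb, mul_inv_cancel_right])
                exact mul_inv_eq_iff_eq_mul.1 h3
            rw [← hmap, ← card_mul_index (Z.subgroupOf A),
              Nat.card_congr (subgroupOfEquivOfLe hZA).toEquiv, hZ2]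
            congr 1
            have h3 : Z.subgroupOf A = (π.domRestrict A).ker := by
              ext x
              rw [MonoidHom.mem_ker, MonoidHom.domRestrict_apply, mem_subgroupOf]
              exact (QuotientGroup.eq_one_iff _).symm
            rw [h3, index_ker, MonoidHom.domRestrict_range]
          have hrel : (centralizer ((P' : Subgroup (X ⧸ Z)) : Set (X ⧸ Z))).relIndex Y =
              C.relIndex Y' := by
            rw [← hCeq, ← inf_relIndex_right (_ ⊓ N) Y', inf_assoc, inf_eq_right.2 hY'N, inf_relIndex_right,
              relIndex_comap, map_comap_eq_self_of_surjective hπs]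
          rw [hrel]
          constructor <;> nlinarith
      · have h1 := hproper H hHtop hPH hCH
        rw [eq_top_iff]
        intro g _
        refine (show O ⊔ H ≤ O ⊔ N from sup_le le_sup_left ?_) (hcover g)
        intro h hh
        obtain ⟨a, ha, b, hb, hab⟩ : (⟨h, hh⟩ : H) ∈ ((oddCore H : Subgroup H) : Set H) *
            ((normalizer ((((P : Subgroup X)).subgroupOf H : Subgroup H) : Set H) : Subgroup H) :
              Set H) := by
          rw [← Subgroup.normal_mul, h1]; trivial
        rw [show h = (a : X) * b from (congrArg Subtype.val hab).symm]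
        refine mul_mem (mem_sup_left ?_) (mem_sup_right ?_)
        · -- `O(C(z)) ≤ O(X)` as `X = O(X) C(z)`
          haveI : (O ⊔ oc H).Normal := by
            refine normalizer_eq_top_iff.1 (top_le_iff.1 fun k _ => ?_)
            have hle : O ⊔ H ≤ normalizer ((O ⊔ oc H : Subgroup X) : Set X) := by
              refine sup_le (le_sup_left.trans le_normalizer) fun m hm => ?_
              have key : ∀ m ∈ H, ∀ x ∈ O ⊔ oc H, m * x * m⁻¹ ∈ O ⊔ oc H := by
                intro m hm x hx
                obtain ⟨o, ho, w, hw, rfl⟩ : x ∈ (O : Set X) * ((oc H : Subgroup X) : Set X) := by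
                  rwa [← Subgroup.normal_mul]
                rw [show m * (o * w) * m⁻¹ = m * o * m⁻¹ * (m * w * m⁻¹) by group]
                exact mul_mem (mem_sup_left ((inferInstance : O.Normal).conj_mem o ho m))
                  (mem_sup_right (oc_conj_mem hw hm))
              rw [mem_normalizer_iff]
              refine fun x => ⟨key m hm x, fun h => ?_⟩
              simpa [mul_assoc] using key m⁻¹ (inv_mem hm) _ h
            exact hle (hcover k)
          exact (le_sup_right.trans (PCore.le_oddCore
            (((PCore.odd_card_oddCore (G := X)).mul (odd_oc H)).of_dvd_nat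
              (PCore.card_sup_dvd O (oc H))))) ⟨a, ha, rfl⟩
        · rw [hN, mem_normalizer_iff]
          intro x
          constructor
          · intro hx
            exact (mem_normalizer_iff.1 hb ⟨x, hPH hx⟩).1 hx
          · intro hx
            have hxH : x ∈ H := by
              have := mul_mem (mul_mem (inv_mem b.2) (hPH hx)) b.2
              simpa [mul_assoc] using this
            exact (mem_normalizer_iff.1 hb ⟨x, hxH⟩).2 hx
    · push Not at hZ
      by_cases hNC : N ≤ C
      · -- Burnside
        obtain ⟨Q, K, hK, hc⟩ := Transfer.hasNormalPComplement_of_normalizer_le_centralizer P hNC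
        haveI := hK
        rw [eq_top_iff]
        intro g _
        obtain ⟨Q', hQ'⟩ : ∃ a : X, a • P = Q := MulAction.exists_smul_eq X P Q
        have hbot : (P : Subgroup X) = ⊥ := by
          by_contra hne
          obtain ⟨z, hz, hz1⟩ := (ne_bot_iff_exists_ne_one.1 hne) |> fun ⟨z, hz⟩ =>
            (⟨(z : X), z.2, fun e => hz (Subtype.ext e)⟩ :
              ∃ z : X, z ∈ (P : Subgroup X) ∧ z ≠ 1)
          obtain ⟨m, hm, hmz⟩ := hZ z hz hz1
          exact hmz (mul_inv_eq_iff_eq_mul.2 (mem_centralizer_iff.1 (hNC hm) z hz).symm)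
        exact mem_sup_right (by
          rw [hN, mem_normalizer_iff, hbot]
          intro x; simp)
      · obtain ⟨hbig, hlt⟩ := hS N hCN le_rfl fun e => hNC e.le
        have hfix1 : Nat.card ↥((P : Subgroup X) ⊓ centralizer (N : Set X)) = 1 := by
          rw [card_eq_one, eq_bot_iff]
          rintro v ⟨hvP, hvc⟩
          by_contra hv
          obtain ⟨m, hm, hmv⟩ := hZ v hvP hv
          exact hmv (mul_inv_eq_iff_eq_mul.2 (mem_centralizer_iff.1 hvc m hm))
        rw [hfix1] at hbig hlt
        have hnc : ¬ IsCyclic (P : Subgroup X) := by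
          intro hcy
          obtain ⟨g, hg⟩ := hcy.exists_generator
          have h2 : Nat.card (P : Subgroup X) ≤ 2 := by
            rw [← orderOf_eq_card_of_forall_mem_zpowers hg]
            exact Nat.le_of_dvd two_pos (orderOf_dvd_of_pow_eq_one (Subtype.ext (by
              rw [SubmonoidClass.coe_pow, pow_two]; exact hE.sq g g.2)))
          omega
        have hCtop : ∀ a ∈ (P : Subgroup X), a ≠ 1 → centralizer ({a} : Set X) ≠ ⊤ := by
          intro a ha ha1 htop
          obtain ⟨m, hm, hma⟩ := hZ a ha ha1
          exact hma (mul_inv_eq_iff_eq_mul.2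
            (mem_centralizer_singleton_iff.1 (htop ▸ mem_top m :
              m ∈ centralizer ({a} : Set X))))
        have hPCa : ∀ a ∈ (P : Subgroup X), (P : Subgroup X) ≤ centralizer ({a} : Set X) :=
          fun a ha b hb => mem_centralizer_singleton_iff.2 (hE.comm b hb a ha)
        have hCCa : ∀ a ∈ (P : Subgroup X), C ≤ centralizer ({a} : Set X) :=
          fun a ha b hb => mem_centralizer_singleton_iff.2 (mem_centralizer_iff.1 hb a ha).symm
        -- the local structure
        have hloc : ∀ a ∈ (P : Subgroup X), a ≠ 1 → ∀ D : Subgroup X, Odd (Nat.card D) →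
            D ≤ centralizer ({a} : Set X) → (P : Subgroup X) ≤ normalizer (D : Set X) →
            D ≤ oc (centralizer ({a} : Set X)) := by
          intro a ha ha1 D hD hDle hDP d hd
          refine ⟨⟨d, hDle hd⟩, ?_, rfl⟩
          refine odd_le_core (P.subtype (hPCa a ha))
            ⟨fun x hx y hy => Subtype.ext (hE.comm x hx y hy), fun x hx => Subtype.ext (hE.sq x hx)⟩
            (hproper _ (hCtop a ha ha1) (hPCa a ha) (hCCa a ha))
            (D.subgroupOf _) (by rwa [Nat.card_congr (subgroupOfEquivOfLe hDle).toEquiv]) ?_ hd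
          intro x hx
          rw [mem_normalizer_iff]
          intro y
          exact mem_normalizer_iff.1 (hDP hx) y
        set θ : X → Subgroup X := fun a => oc (centralizer ({a} : Set X)) with hθ
        obtain ⟨hW, -⟩ := SSFT.hasSFT (p := 2) X (P : Subgroup X) hE.comm
          (fun a ha => by rw [pow_two]; exact hE.sq a ha)
          (by
            obtain ⟨k, hk⟩ := IsPGroup.iff_card.1 P.2
            rw [hk] at hbig ⊢
            refine Nat.pow_le_pow_right two_pos ?_
            by_contra hc
            have : 2 ^ k ≤ 4 := (Nat.pow_le_pow_right two_pos (by omega : k ≤ 2)).trans (by norm_num)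
            omega)
          θ (fun a _ _ => oc_le _)
          (fun a _ _ => fun h => Nat.not_even_iff_odd.2 (odd_oc _) (even_iff_two_dvd.2 h))
          (fun a ha _ b hb x hx => oc_conj_mem hx (hPCa a ha hb))
          (fun a _ _ => S0205.result (odd_oc _))
          (fun a ha _ b hb hb1 => by
            refine hloc b hb hb1 _ ((odd_oc _).of_dvd_nat (card_dvd_of_le inf_le_left)) inf_le_right
              fun v hv => ?_
            rw [mem_normalizer_iff]
            have key : ∀ v ∈ (P : Subgroup X), ∀ x ∈ θ a ⊓ centralizer ({b} : Set X),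
                v * x * v⁻¹ ∈ θ a ⊓ centralizer ({b} : Set X) := fun v hv x hx =>
              ⟨oc_conj_mem hx.1 (hPCa a ha hv), mul_mem (mul_mem (hPCa b hb hv) hx.2)
                ((centralizer ({b} : Set X)).inv_mem (hPCa b hb hv))⟩
            refine fun x => ⟨key v hv x, fun h => ?_⟩
            simpa [mul_assoc] using key v⁻¹ (inv_mem hv) _ h)
        set W := ⨆ a : {a : X // a ∈ (P : Subgroup X) ∧ a ≠ 1}, θ a with hWdef
        have hθW : ∀ a ∈ (P : Subgroup X), a ≠ 1 → θ a ≤ W := fun a ha ha1 =>
          le_iSup (fun a : {a : X // a ∈ (P : Subgroup X) ∧ a ≠ 1} => θ a) ⟨a, ha, ha1⟩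
        have hWN : ∀ m ∈ N, ∀ x ∈ W, m * x * m⁻¹ ∈ W := by
          intro m hm x hx
          have hle : W ≤ W.comap (MulAut.conj m).toMonoidHom := by
            refine iSup_le fun a => fun y hy => ?_
            have ha' : m * (a : X) * m⁻¹ ∈ (P : Subgroup X) :=
              (mem_normalizer_iff.1 hm _).1 a.2.1
            refine hθW _ ha' (fun e => a.2.2 (conj_eq_one_iff.1 e)) ?_
            refine oc_equivariant m (fun h => ?_) y hy
            simp only [mem_centralizer_singleton_iff]
            constructor
            · intro h1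
              calc m * h * m⁻¹ * (m * a * m⁻¹) = m * (h * a) * m⁻¹ := by group
                _ = m * (a * h) * m⁻¹ := by rw [h1]
                _ = m * a * m⁻¹ * (m * h * m⁻¹) := by group
            · intro h1
              calc h * a = m⁻¹ * (m * h * m⁻¹ * (m * a * m⁻¹)) * m := by group
                _ = m⁻¹ * (m * a * m⁻¹ * (m * h * m⁻¹)) * m := by rw [h1]
                _ = a * h := by group
          exact hle hx
        have hWNle : N ≤ normalizer (W : Set X) := fun m hm => by
          rw [mem_normalizer_iff]
          refine fun x => ⟨hWN m hm x, fun h => ?_⟩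
          simpa [mul_assoc] using hWN m⁻¹ (inv_mem hm) _ h
        set M := W ⊔ N with hM
        have hPM : (P : Subgroup X) ≤ M := hPN.trans le_sup_right
        have hMnorm : M ≤ normalizer (W : Set X) := sup_le le_normalizer hWNle
        have hCM : ∀ a ∈ (P : Subgroup X), a ≠ 1 → centralizer ({a} : Set X) ≤ M := by
          intro a ha ha1 g hg
          obtain ⟨o, ho, b, hb, hob⟩ : (⟨g, hg⟩ : centralizer ({a} : Set X)) ∈
              ((oddCore (centralizer ({a} : Set X)) : Subgroup (centralizer ({a} : Set X))) :
                Set (centralizer ({a} : Set X))) *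
              ((normalizer ((((P : Subgroup X)).subgroupOf (centralizer ({a} : Set X)) :
                Subgroup (centralizer ({a} : Set X))) : Set (centralizer ({a} : Set X))) :
                Subgroup (centralizer ({a} : Set X))) : Set (centralizer ({a} : Set X))) := by
            rw [← Subgroup.normal_mul, hproper _ (hCtop a ha ha1) (hPCa a ha) (hCCa a ha)]; trivial
          rw [show g = (o : X) * b from (congrArg Subtype.val hob).symm]
          refine mul_mem (mem_sup_left (hθW a ha ha1 ⟨o, ho, rfl⟩)) (mem_sup_right ?_)
          rw [hN, mem_normalizer_iff]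
          intro x
          constructor
          · intro hx
            exact (mem_normalizer_iff.1 hb ⟨x, hPCa a ha hx⟩).1 hx
          · intro hx
            have hxH : x ∈ centralizer ({a} : Set X) := by
              have := mul_mem (mul_mem (inv_mem b.2) (hPCa a ha hx)) b.2
              simpa [mul_assoc] using this
            exact (mem_normalizer_iff.1 hb ⟨x, hxH⟩).2 hx
        by_cases hMtop : M = ⊤
        · haveI : W.Normal := normalizer_eq_top_iff.1 (top_le_iff.1 (hMtop ▸ hMnorm))
          have hWO : W ≤ O := PCore.le_oddCore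
            (Nat.not_even_iff_odd.1 fun h => hW (even_iff_two_dvd.1 h))
          rw [eq_top_iff, ← hMtop]
          exact sup_le_sup_right hWO _
        · exfalso
          have hfuse : ∀ v ∈ M, orderOf v = 2 → ∀ g : X, g * v * g⁻¹ ∈ M → g ∈ M := by
            intro v hv hv2 g hg
            have hgv2 : orderOf (g * v * g⁻¹) = 2 := by
              rw [show g * v * g⁻¹ = MulAut.conj g v from rfl, MulEquiv.orderOf_eq, hv2]
            obtain ⟨m1, hm1, h1⟩ := exists_conj_mem P hPM hv hv2
            obtain ⟨m2, hm2, h2⟩ := exists_conj_mem P hPM hg hgv2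
            set a := m1 * v * m1⁻¹ with ha
            set y := m2 * g * m1⁻¹ with hy
            have e1 : y * a * y⁻¹ = m2 * (g * v * g⁻¹) * m2⁻¹ := by rw [ha, hy]; group
            obtain ⟨m, hm, he⟩ := exists_normalizer_conj P hE h1 (e1 ▸ h2)
            have ha1 : a ≠ 1 := fun e => by
              have := (conj_eq_one_iff.1 e)
              rw [this, orderOf_one] at hv2
              omega
            have hc : m⁻¹ * y ∈ M := hCM a h1 ha1 (mem_centralizer_singleton_iff.2 (by
              calc m⁻¹ * y * a = m⁻¹ * (y * a * y⁻¹) * y := by group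
                _ = m⁻¹ * (m * a * m⁻¹) * y := by rw [he]
                _ = a * (m⁻¹ * y) := by group))
            have hyM : y ∈ M := by
              have := mul_mem (mem_sup_right (S := W) hm) hc
              rwa [mul_inv_cancel_left] at this
            have := mul_mem (mul_mem (inv_mem hm2) hyM) hm1
            rwa [show m2⁻¹ * y * m1 = g by rw [hy]; group] at this
          obtain ⟨g, hg⟩ : ∃ g, g ∉ M := by
            by_contra h
            push Not at h
            exact hMtop (eq_top_iff.2 fun g _ => h g)
          -- two involutions of `P` not conjugate in `X`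
          obtain ⟨a, ha, ha1⟩ : ∃ a ∈ (P : Subgroup X), a ≠ 1 := by
            have h1 : 1 < Nat.card (P : Subgroup X) := by omega
            haveI := Finite.one_lt_card_iff_nontrivial.1 h1
            obtain ⟨x, hx⟩ := exists_ne (1 : (P : Subgroup X))
            exact ⟨x, x.2, fun e => hx (Subtype.ext e)⟩
          obtain ⟨b, hb, hb1, hab⟩ : ∃ b ∈ (P : Subgroup X), b ≠ 1 ∧ ¬ IsConj a b := by
            by_contra hcon
            push Not at hcon
            haveI : (C.subgroupOf N).Normal := inferInstance
            let f : (N ⧸ C.subgroupOf N) → X := fun c => Quotient.out c * a * (Quotient.out c : N)⁻¹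
            have hsub : ((P : Subgroup X) : Set X) \ {1} ⊆ Set.range f := by
              rintro b ⟨hb, hb1⟩
              obtain ⟨y, hy⟩ := isConj_iff.1 (hcon b hb hb1)
              obtain ⟨m, hm, he⟩ := exists_normalizer_conj P hE ha (hy ▸ hb)
              refine ⟨QuotientGroup.mk ⟨m, hm⟩, ?_⟩
              obtain ⟨c, hc⟩ := QuotientGroup.mk_out_eq_mul (C.subgroupOf N) ⟨m, hm⟩
              show ((Quotient.out (QuotientGroup.mk (⟨m, hm⟩ : N) : N ⧸ C.subgroupOf N) : N) : X) *
                a * (_ : N)⁻¹ = b
              rw [hc]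
              have hca : a * ((c : N) : X) = ((c : N) : X) * a :=
                mem_centralizer_iff.1 (show ((c : N) : X) ∈ C from c.2) a ha
              rw [← hy, he]
              simp only [Subgroup.coe_mul, Subgroup.coe_inv, mul_inv_rev]
              calc m * ((c : N) : X) * a * (((c : N) : X)⁻¹ * m⁻¹) =
                    m * (((c : N) : X) * a) * ((c : N) : X)⁻¹ * m⁻¹ := by group
                _ = m * (a * ((c : N) : X)) * ((c : N) : X)⁻¹ * m⁻¹ := by rw [← hca]
                _ = m * a * m⁻¹ := by group
            have h5 := Set.ncard_le_ncard hsub (Set.finite_range f)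
            have h6 : (Set.range f).ncard ≤ C.relIndex N := by
              rw [← Set.image_univ]
              refine (Set.ncard_image_le (Set.finite_univ)).trans ?_
              rw [Set.ncard_univ, ← index_eq_card]
              rfl
            rw [Set.ncard_sdiff_singleton_of_mem (one_mem _), ← Nat.card_coe_set_eq] at h5
            have : Nat.card ((P : Subgroup X) : Set X) = Nat.card (P : Subgroup X) := rfl
            have : C.relIndex N = (centralizer ((P : Subgroup X) : Set X)).relIndex N := rfl
            omega
          set c := g * b * g⁻¹ with hc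
          have hc2 : c * c = 1 := by
            calc c * c = g * (b * b) * g⁻¹ := by rw [hc]; group
              _ = 1 := by rw [hE.sq b hb]; group
          obtain ⟨z, hz2, hza, hzc⟩ := exists_commuting_of_not_isConj (hE.sq a ha) hc2
            fun h => hab (h.trans (isConj_iff.2 ⟨g⁻¹, by rw [hc]; group⟩))
          have hzM : z ∈ M := hCM a ha ha1 (mem_centralizer_singleton_iff.2 hza.eq)
          obtain ⟨m, hm, hmz⟩ := exists_conj_mem P hPM hzM hz2
          have hcM : c ∈ M := by
            have h7 : m * c * m⁻¹ ∈ M := hCM _ hmz (fun e => by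
              rw [conj_eq_one_iff] at e
              rw [e, orderOf_one] at hz2
              omega) (mem_centralizer_singleton_iff.2 (by
                calc m * c * m⁻¹ * (m * z * m⁻¹) = m * (c * z) * m⁻¹ := by group
                  _ = m * (z * c) * m⁻¹ := by rw [hzc.eq]
                  _ = m * z * m⁻¹ * (m * c * m⁻¹) := by group))
            have := mul_mem (mul_mem (inv_mem hm) h7) hm
            rwa [show m⁻¹ * (m * c * m⁻¹) * m = c by group] at this
          exact hg (hfuse b (hPM hb) (orderOf_eq_prime (by rw [pow_two]; exact hE.sq b hb) hb1) g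
            hcM)

/-- A group with an elementary abelian Sylow 2-subgroup with small automizer is 2-closed modulo its
odd core. -/
theorem oddCore_sup_normalizer (P : Sylow 2 X) (hE : Elem P) (hS : Small P) :
    oddCore X ⊔ normalizer ((P : Subgroup X) : Set X) = ⊤ :=
  twoClosed_aux _ X rfl P hE hS

end Cfsg.Agent.DegreeGap
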