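import Cfsg.Agent.Lib.DegreeGap.Setting
import Cfsg.Agent.Lib.DegreeGap.TwoClosed

/-!
# No linear character of odd order survives in the centraliser of an involution
-/

set_option autoImplicit false
set_option linter.style.haveILetI false
set_option linter.unusedSectionVars false

namespace Cfsg.Agent.DegreeGap

open Cfsg Cfsg.Agent Cfsg.Agent.Blocks
open scoped ComplexConjugate Pointwise

universe u

variable {G : Type u} [Group G] [Fintype G] [Fact (Nat.Prime 2)]

theorem hom_ne_zero {C : Type*} [Group C] (μ : C →* ℂ) (g : C) : μ g ≠ 0 := fun h => by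
  have h1 := map_mul μ g g⁻¹
  rw [mul_inv_cancel, map_one, h, zero_mul] at h1
  exact one_ne_zero h1

/-- The centraliser of `s`. -/
abbrev Cz (s : G) : Subgroup G := Subgroup.centralizer ({s} : Set G)

/-- Twisting permutes the principal block. -/
theorem sum_blk_twist {M : Ideal AlgInt} [M.IsMaximal] (hpM : ((2 : ℕ) : AlgInt) ∈ M)
    (P : Sylow 2 G) (μ : G →* ℂ)
    (hμ : ∀ g ∈ Subgroup.centralizer ((P : Subgroup G) : Set G), μ g = 1)
    (f : (G → ℂ) → ℂ) :
    ∑ θ ∈ blk M G, f θ.1 = ∑ θ ∈ blk M G, f (⇑μ * θ.1) := by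
  classical
  let j : IrrCharacter G → IrrCharacter G := fun θ =>
    ⟨⇑μ * θ.1, Char.IsIrrCharacter.mul_linear θ.2 μ⟩
  have hj : Function.Injective j := fun a b h => Subtype.ext (funext fun g =>
    mul_left_cancel₀ (hom_ne_zero μ g) (congrFun (congrArg Subtype.val h) g))
  have himg : (blk M G).image j = blk M G := by
    refine Finset.eq_of_subset_of_card_le (fun θ hθ => ?_)
      (Finset.card_image_of_injective _ hj).ge
    obtain ⟨η, hη, rfl⟩ := Finset.mem_image.1 hθ
    exact mem_blk.2 (twist_mem hpM P μ hμ (mem_blk.1 hη))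
  conv_lhs => rw [← himg]
  rw [Finset.sum_image fun a _ b _ h => hj h]

variable {M : Ideal AlgInt} [M.IsMaximal] {u s : G} (D : Data M u s)
  (hpM : ((2 : ℕ) : AlgInt) ∈ M)
include D hpM

theorem Data.le_centralizer_s (P : Sylow 2 G) (hsP : s ∈ (P : Subgroup G)) :
    (P : Subgroup G) ≤ Cz s := fun _ hx =>
  Subgroup.mem_centralizer_singleton_iff.2 (D.comm P hx hsP)

theorem Data.singular_mul {z : Cz s} (hz : IsPRegular 2 z) :
    ¬ IsPRegular 2 (s * (z : G)) := by
  have hpp : IsPPart 2 (s * (z : G)) s := isPPart_mul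
    (Subgroup.mem_centralizer_singleton_iff.1 z.2).symm ⟨1, by rw [D.order, pow_one]⟩
    (by show ¬ 2 ∣ orderOf (z : G); rw [Subgroup.orderOf_coe]; exact hz)
  obtain ⟨i, hi⟩ := IsPPart.mem_zpowers hpp
  intro h
  apply h
  exact (D.order ▸ orderOf_dvd_of_mem_zpowers ⟨i, hi⟩ : 2 ∣ orderOf (s * (z : G)))

theorem Data.local_eq_top (P : Sylow 2 G) (hsP : s ∈ (P : Subgroup G))
    (L : Subgroup (Cz s)) [L.Normal] (hodd : Odd L.index)
    (hC : Subgroup.centralizer (((P.subtype (D.le_centralizer_s hpM P hsP) :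
        Sylow 2 (Cz s)) :
          Subgroup (Cz s)) :
            Set (Cz s)) ≤ L) : L = ⊤ := by
  classical
  by_contra hL
  haveI := Fintype.ofFinite (Cz s)
  set P' : Sylow 2 (Cz s) := P.subtype (D.le_centralizer_s hpM P hsP) with hP'
  obtain ⟨μ, hμ1, hμL, hμsq⟩ := exists_linear L hL hodd
  have hμP : ∀ g ∈ Subgroup.centralizer ((P' : Subgroup (Cz s)) : Set (Cz s)), μ g = 1 :=
    fun g hg => hμL g (hC hg)
  -- a regular element with `μ z ≠ 1`
  obtain ⟨z, hz, hμz, hμzz⟩ : ∃ z : (Cz s), IsPRegular 2 z ∧ μ z ≠ 1 ∧ μ z * μ z ≠ 1 := by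
    obtain ⟨g, hg⟩ : ∃ g, μ g ≠ 1 := by
      by_contra h
      push Not at h
      exact hμ1 (MonoidHom.ext h)
    have hpow : ∀ e : ℕ, μ (g ^ 2 ^ e) ≠ 1 := by
      intro e
      induction e with
      | zero => simpa using hg
      | succ e ih =>
        rw [pow_succ, pow_mul, pow_two]
        exact hμsq _ ih
    refine ⟨g ^ 2 ^ (orderOf g).factorization 2, ?_, hpow _, ?_⟩
    · rw [IsPRegular, orderOf_pow, Nat.gcd_eq_right (Nat.ordProj_dvd _ _)]
      exact Nat.not_dvd_ordCompl Nat.prime_two (orderOf_pos g).ne'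
    · rw [← map_mul]; exact hμsq _ (hpow _)
  have hx : ∃ k, orderOf s = 2 ^ k := ⟨1, by rw [D.order, pow_one]⟩
  have hB := isPBlock_principalBlock (G := G) hpM
  have hso : ∀ a b : (Cz s), IsPRegular 2 a → IsPRegular 2 b →
      ∑ χ ∈ blk M G, χ.1 (s * (a : G)) * conj (χ.1 (s * (b : G))) =
        ∑ η ∈ blk M (Cz s), η.1 a * conj (η.1 b) := by
    intro a b ha hb
    have h := second_main_orth hpM hx hB ha hb
    rw [inducingSet_principalBlock hpM hx] at h
    unfold blk
    convert h using 2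
  have hone : IsPRegular 2 (1 : (Cz s)) := by simp [IsPRegular]
  -- first sum
  have hT1 : ∑ η ∈ blk M (Cz s), η.1 z * conj (η.1 1) = 0 := by
    have h := sum_blk_twist hpM P' μ hμP (fun θ => θ z * conj (θ 1))
    simp only [Pi.mul_apply, map_one, one_mul, mul_assoc] at h
    rw [← Finset.mul_sum] at h
    by_contra hne
    exact hμz (mul_right_cancel₀ hne (by rw [one_mul]; exact h.symm))
  have hL1 := hso z 1 hz hone
  rw [hT1, Subgroup.coe_one, mul_one] at hL1
  have hne0 : ∑ χ ∈ (blk M G).erase (Char.trivialChar G), χ.1 (s * (z : G)) = 0 := by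
    have h0 := sum_deg_singular hpM (D.singular_mul hpM hz)
    rw [sum_blk_split] at hL1 h0
    simp only [Char.trivialChar_apply, map_one, mul_one] at hL1 h0
    have hq0 : (twoPart G : ℂ) ≠ 0 := by simp [twoPart]
    have hmul : (twoPart G : ℂ) *
        ∑ χ ∈ (blk M G).erase (Char.trivialChar G), χ.1 (s * (z : G)) = 0 := by
      rw [Finset.mul_sum]
      have e : ∀ χ ∈ (blk M G).erase (Char.trivialChar G),
          (twoPart G : ℂ) * χ.1 (s * (z : G)) =
            χ.1 1 * χ.1 (s * (z : G)) - χ.1 (s * (z : G)) * conj (χ.1 s) := by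
        intro χ hχ
        obtain ⟨hne, hmem⟩ := Finset.mem_erase.1 hχ
        rw [D.apply_s hpM (mem_blk.1 hmem) hne, map_sub, conj_degree, map_natCast]
        ring
      rw [Finset.sum_congr rfl e, Finset.sum_sub_distrib]
      linear_combination h0 - hL1
    exact (mul_eq_zero.1 hmul).resolve_left hq0
  have hsum1 : ∑ χ ∈ blk M G, χ.1 (s * (z : G)) = 1 := by
    rw [sum_blk_split, hne0, Char.trivialChar_apply, add_zero]
  -- second sum
  have hT2 : ∑ η ∈ blk M (Cz s), η.1 z * conj (η.1 z⁻¹) = 0 := by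
    have h := sum_blk_twist hpM P' μ hμP (fun θ => θ z * θ z)
    have e : ∀ η : IrrCharacter (Cz s), η.1 z * conj (η.1 z⁻¹) = η.1 z * η.1 z := fun η => by
      rw [Char.IsCharacter.conj_apply (Char.irr_isCharacter η), inv_inv]
    simp only [e]
    rw [Finset.sum_congr rfl (g := fun η : IrrCharacter (Cz s) => μ z * μ z * (η.1 z * η.1 z))
      (s₁ := blk M (Cz s)) (s₂ := blk M (Cz s))
      (f := fun η => (⇑μ * η.1) z * (⇑μ * η.1) z) fun η _ => mul_mul_mul_comm _ _ _ _,
      ← Finset.mul_sum] at h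
    by_contra hne
    exact hμzz (mul_right_cancel₀ hne (by rw [one_mul]; exact h.symm))
  have hL2 := hso z z⁻¹ hz (by rwa [IsPRegular, orderOf_inv])
  rw [hT2] at hL2
  have hsq : ∑ χ ∈ blk M G, χ.1 (s * (z : G)) * χ.1 (s * (z : G)) = 0 := by
    rw [← hL2]
    refine Finset.sum_congr rfl fun χ _ => ?_
    congr 1
    rw [Char.IsCharacter.conj_apply (Char.irr_isCharacter χ)]
    congr 1
    rw [Subgroup.coe_inv, mul_inv_rev, inv_inv, inv_eq_of_mul_eq_one_right
      (show s * s = 1 by have := pow_orderOf_eq_one s; rwa [D.order, pow_two] at this)]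
    exact congrArg χ.1 (Subgroup.mem_centralizer_singleton_iff.1 z.2).symm
  haveI := charP_residue (p := 2) hpM
  have hint : ∀ (χ : IrrCharacter G) (g : G), MemLocalRing M (χ.1 g) := memLocalRing_irr
  have h5 := congrArg (red M) hsum1
  rw [red_sum _ fun χ _ => hint χ _, red_one] at h5
  have h4 := congrArg (red M) hsq
  rw [red_sum _ fun χ _ => MemLocalRing.mul (hint χ _) (hint χ _), red_zero] at h4
  rw [Finset.sum_congr rfl (g := fun χ : IrrCharacter G => red M (χ.1 (s * (z : G))) ^ 2)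
    fun χ _ => by rw [red_mul (hint _ _) (hint _ _), pow_two]] at h4
  rw [← sum_pow_char 2, pow_eq_zero_iff two_ne_zero] at h4
  exact one_ne_zero (h5.symm.trans h4)

/-- With a small automizer the centraliser of the involution is 2-nilpotent. -/
theorem Data.oddCore_sup_eq_top (P : Sylow 2 G) (hsP : s ∈ (P : Subgroup G))
    (hS : Small (P.subtype (D.le_centralizer_s hpM P hsP))) :
    oddCore (Cz s) ⊔
      ((P.subtype (D.le_centralizer_s hpM P hsP) :
        Sylow 2 (Cz s)) :
          Subgroup (Cz s)) = ⊤ := by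
  classical
  set P' : Sylow 2 (Cz s) := P.subtype (D.le_centralizer_s hpM P hsP) with hP'
  have hE : Elem P' := ⟨fun a ha b hb => Subtype.ext (D.comm P ha hb),
    fun a ha => Subtype.ext (D.sq_eq_one P ha)⟩
  have hgen := oddCore_sup_normalizer P' hE hS
  set O := oddCore (Cz s) with hO
  set K := Subgroup.centralizer ((P' : Subgroup (Cz s)) : Set (Cz s)) with hK
  haveI : (O ⊔ K).Normal := by
    refine Subgroup.normalizer_eq_top_iff.1 (top_le_iff.1 ?_)
    rw [← hgen]
    refine sup_le (le_sup_left.trans Subgroup.le_normalizer) fun g hg => ?_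
    have key : ∀ g ∈ Subgroup.normalizer ((P' : Subgroup (Cz s)) : Set (Cz s)), ∀ x ∈ O ⊔ K,
        g * x * g⁻¹ ∈ O ⊔ K := by
      intro g hg x hx
      obtain ⟨o, ho, c, hc, rfl⟩ : x ∈ (O : Set (Cz s)) * (K : Set (Cz s)) := by
        rwa [← Subgroup.normal_mul]
      rw [show g * (o * c) * g⁻¹ = g * o * g⁻¹ * (g * c * g⁻¹) by group]
      refine mul_mem (Subgroup.mem_sup_left ((inferInstance : O.Normal).conj_mem o ho g))
        (Subgroup.mem_sup_right ?_)
      refine Subgroup.mem_centralizer_iff.2 fun y hy => ?_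
      have h1 := Subgroup.mem_centralizer_iff.1 hc (g⁻¹ * y * g) (by
        have h2 := (Subgroup.mem_normalizer_iff.1 (inv_mem hg) y).1 hy
        rwa [inv_inv] at h2)
      calc y * (g * c * g⁻¹) = g * (g⁻¹ * y * g * c) * g⁻¹ := by group
        _ = g * (c * (g⁻¹ * y * g)) * g⁻¹ := by rw [h1]
        _ = g * c * g⁻¹ * y := by group
    rw [Subgroup.mem_normalizer_iff]
    refine fun x => ⟨key g hg x, fun h => ?_⟩
    simpa [mul_assoc] using key g⁻¹ (inv_mem hg) _ h
  have htop : O ⊔ K = ⊤ := D.local_eq_top hpM P hsP (O ⊔ K) (by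
    refine Nat.not_even_iff_odd.1 fun he => P'.not_dvd_index ?_
    exact (even_iff_two_dvd.1 he).trans
      (Subgroup.index_dvd_of_le (hE.le_centralizer.trans le_sup_right))) le_sup_right
  have hoc : oc K ≤ O := by
    refine odd_le_core P' hE hgen _ (odd_oc _) fun v hv => ?_
    rw [Subgroup.mem_normalizer_iff]
    intro x
    refine ⟨fun hx => oc_conj_mem hx (hE.le_centralizer hv), fun h => ?_⟩
    simpa [mul_assoc] using oc_conj_mem h (inv_mem (hE.le_centralizer hv))
  rw [eq_top_iff, ← htop]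
  exact sup_le le_sup_left ((centralizer_le P' hE).trans (sup_le_sup_right hoc _))

end Cfsg.Agent.DegreeGap
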