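import Cfsg.Agent.Lib.DegreeGap.Local
import Cfsg.Agent.S3360
import Mathlib.FieldTheory.Fixed
import Mathlib.GroupTheory.Subgroup.Centralizer

/-!
# The automizer of the Sylow subgroup is semilinear
-/

set_option autoImplicit false
set_option linter.style.haveILetI false
set_option linter.unusedSectionVars false

namespace Cfsg.Agent.DegreeGap

open Cfsg Cfsg.Agent
open scoped Pointwise

universe u

variable {G : Type u} [Group G] [Fintype G] [Fact (Nat.Prime 2)]
variable {M : Ideal AlgInt} [M.IsMaximal] {u s : G} (D : Data M u s)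
include D

theorem Data.odd_relIndex (P : Sylow 2 G) :
    Odd ((Subgroup.centralizer ((P : Subgroup G) : Set G)).relIndex
      (Subgroup.normalizer ((P : Subgroup G) : Set G))) := by
  refine Nat.not_even_iff_odd.1 fun he => P.not_dvd_index ?_
  exact ((even_iff_two_dvd.1 he).trans
    (Subgroup.relIndex_dvd_index_of_le (Subgroup.centralizer_le_normalizer _))).trans
      (Subgroup.index_dvd_of_le (fun a ha =>
        Subgroup.mem_centralizer_iff.2 fun b hb => D.comm P hb ha))

omit D in
theorem arith {c o : ℕ} (hc : 2 ≤ c) (ho : 3 ≤ o) (h8 : c ^ o ≠ 8) (hodd : Odd o) :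
    4 * c < c ^ o ∧ (o + 1) * c < c ^ o := by
  obtain ⟨k, rfl⟩ : ∃ k, o = k + 1 := ⟨o - 1, by omega⟩
  have hk : 2 ≤ k := by omega
  have key : 4 < c ^ k ∧ k + 1 + 1 < c ^ k := by
    by_cases hk2 : k = 2
    · subst hk2
      have hc3 : c ≠ 2 := fun h => h8 (by subst h; norm_num)
      have : 3 * 3 ≤ c ^ 2 := by rw [pow_two]; exact Nat.mul_le_mul (by omega) (by omega)
      omega
    · have hk3 : 4 ≤ k := by
        obtain ⟨m, hm⟩ := hodd
        omega
      have h1 : 2 ^ k ≤ c ^ k := Nat.pow_le_pow_left hc k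
      have h2 : k + 3 ≤ 2 ^ k := by
        clear h1 hodd h8 hk2 ho
        induction k with
        | zero => omega
        | succ k ih =>
          by_cases hk4 : 4 ≤ k
          · have := ih (by omega) hk4
            rw [pow_succ]; omega
          · obtain rfl : k = 3 := by omega
            norm_num
      omega
  rw [pow_succ]
  exact ⟨Nat.mul_lt_mul_of_pos_right key.1 (by omega),
    Nat.mul_lt_mul_of_pos_right key.2 (by omega)⟩

set_option maxHeartbeats 1000000 in
/-- The normaliser acts semilinearly, normalised so that `s` goes to `1`. -/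
theorem Data.exists_field (P : Sylow 2 G) (hsP : s ∈ (P : Subgroup G)) :
    ∃ (F : Type) (_ : Field F) (_ : Fintype F) (e : (P : Subgroup G) ≃ F),
      e ⟨s, hsP⟩ = 1 ∧
      ∀ n ∈ Subgroup.normalizer ((P : Subgroup G) : Set G), n * s = s * n →
        ∃ σ : F ≃+* F, ∀ v w : (P : Subgroup G), (w : G) = n * v * n⁻¹ → e w = σ (e v) := by
  classical
  set Q : Subgroup G := (P : Subgroup G) with hQ
  letI : CommGroup Q := { (inferInstance : Group Q) with
    mul_comm := fun a b => Subtype.ext (D.comm P a.2 b.2) }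
  letI : Module (ZMod 2) (Additive Q) := AddCommGroup.zmodModule fun x => by
    show x.toMul ^ 2 = 1
    rw [pow_two]
    exact Subtype.ext (D.sq_eq_one P x.toMul.2)
  have hs1 : s ≠ 1 := fun h => by
    have := D.order
    rw [h, orderOf_one] at this
    omega
  haveI : Nontrivial (Additive Q) :=
    ⟨⟨Additive.ofMul ⟨s, hsP⟩, 0, fun h => hs1 (congrArg (fun x : Additive Q => (x.toMul : G)) h)⟩⟩
  set φ := Q.normalizerMonoidHom with hφ
  let lin : MulAut Q →* (Additive Q ≃ₗ[ZMod 2] Additive Q) :=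
    { toFun := fun f => (MulEquiv.toAdditive f).toLinearEquiv (fun c x =>
        ZMod.map_smul (MulEquiv.toAdditive f) c x)
      map_one' := by ext x; rfl
      map_mul' := fun f g => by ext x; rfl }
  have hlin : Function.Injective lin := fun f g h => MulEquiv.ext fun x =>
    congrArg Additive.toMul (LinearEquiv.congr_fun h (Additive.ofMul x))
  let ρ : φ.range →* (Additive Q ≃ₗ[ZMod 2] Additive Q) := lin.comp φ.range.subtype
  have hρ : Function.Injective ρ := hlin.comp φ.range.subtype_injective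
  have hodd : Odd (Nat.card φ.range) := by
    rw [← Subgroup.index_ker, hφ, Subgroup.normalizerMonoidHom_ker]
    exact D.odd_relIndex P
  have htrans : ∀ v w : Additive Q, v ≠ 0 → w ≠ 0 → ∃ g : φ.range, ρ g v = w := by
    intro v w hv hw
    have hv1 : (v.toMul : G) ≠ 1 := fun h => hv (congrArg Additive.ofMul (Subtype.ext h : v.toMul = 1))
    have hw1 : (w.toMul : G) ≠ 1 := fun h => hw (congrArg Additive.ofMul (Subtype.ext h : w.toMul = 1))
    obtain ⟨g, hg⟩ := isConj_iff.1 ((D.isConj_of_mem P v.toMul.2 hv1).trans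
      (D.isConj_of_mem P w.toMul.2 hw1).symm)
    obtain ⟨n, hn, he⟩ := exists_normalizer_conj P
      ⟨fun a ha b hb => D.comm P ha hb, fun a ha => D.sq_eq_one P ha⟩ v.toMul.2
      (g := g) (hg ▸ w.toMul.2)
    refine ⟨⟨φ ⟨n, hn⟩, _, rfl⟩, ?_⟩
    refine congrArg Additive.ofMul (Subtype.ext ?_ : φ ⟨n, hn⟩ v.toMul = w.toMul)
    exact he.symm.trans hg
  obtain ⟨F, iF, iFF, e, he⟩ | hexc := S3360.result 2 (S0205.result hodd) ρ hρ htrans
  swap
  · exfalso
    have hcard : Nat.card (Additive Q) = twoPart G :=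
      (Nat.card_congr Additive.toMul).trans (card_sylow P)
    rw [hcard] at hexc
    obtain ⟨k, hk⟩ : ∃ k, twoPart G = 2 ^ k := ⟨_, rfl⟩
    have hk0 : k ≠ 0 := fun h => by
      have := D.four
      rw [hk, h, pow_zero] at this
      omega
    have h2 : 2 ∣ twoPart G := hk ▸ dvd_pow_self 2 hk0
    simp only [Set.mem_insert_iff, Set.mem_singleton_iff] at hexc
    omega
  set c : F := e (Additive.ofMul ⟨s, hsP⟩) with hc
  have hc0 : c ≠ 0 := fun h => by
    have h1 : (Additive.ofMul (⟨s, hsP⟩ : Q)) = 0 := e.injective (h.trans (map_zero e).symm)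
    exact hs1 (congrArg (fun x : Additive Q => (x.toMul : G)) h1)
  refine ⟨F, iF, iFF, (Additive.ofMul.trans e.toEquiv).trans (Equiv.divRight₀ c hc0), ?_, ?_⟩
  · show c / c = 1
    exact div_self hc0
  intro n hn hns
  obtain ⟨a, σ, hσ⟩ := he ⟨φ ⟨n, hn⟩, _, rfl⟩
  refine ⟨σ, fun v w hw => ?_⟩
  have h1 : ρ ⟨φ ⟨n, hn⟩, _, rfl⟩ (Additive.ofMul v) = Additive.ofMul w :=
    congrArg Additive.ofMul (Subtype.ext hw.symm : φ ⟨n, hn⟩ v = w)
  have h2 : ρ ⟨φ ⟨n, hn⟩, _, rfl⟩ (Additive.ofMul ⟨s, hsP⟩) = Additive.ofMul ⟨s, hsP⟩ :=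
    congrArg Additive.ofMul (Subtype.ext (show n * s * n⁻¹ = s by
      rw [hns, mul_inv_cancel_right]) : φ ⟨n, hn⟩ ⟨s, hsP⟩ = ⟨s, hsP⟩)
  have h3 := hσ (Additive.ofMul v)
  have h4 := hσ (Additive.ofMul ⟨s, hsP⟩)
  rw [h1] at h3
  rw [h2, ← hc] at h4
  show e (Additive.ofMul w) / c = σ (e (Additive.ofMul v) / c)
  rw [h3, map_div₀]
  conv_lhs => rw [h4]
  have ha : a ≠ 0 := fun h => hc0 (by rw [h4, h, zero_mul])
  rw [mul_div_mul_left _ _ ha]

set_option maxHeartbeats 1000000 in
/-- For `q ≠ 8` the automizer inside `C(s)` is small. -/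
theorem Data.small_s (P : Sylow 2 G) (hsP : s ∈ (P : Subgroup G)) (hq8 : twoPart G ≠ 8)
    (hpM : ((2 : ℕ) : AlgInt) ∈ M) :
    Small (P.subtype (D.le_centralizer_s hpM P hsP)) := by
  classical
  refine small_subtype P _ (fun x hx => Subgroup.mem_centralizer_singleton_iff.2
    (Subgroup.mem_centralizer_iff.1 hx s hsP).symm) ?_
  intro Y hYs hCY hYN hne
  obtain ⟨F, iF, iFF, e, he1, he⟩ := D.exists_field P hsP
  have hN : ∀ y : Y, ∀ v : (P : Subgroup G), (y : G) * v * (y : G)⁻¹ ∈ (P : Subgroup G) := fun y v =>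
    (Subgroup.mem_normalizer_iff.1 (hYN y.2) v).1 v.2
  have hσ : ∀ y : Y, ∃ σ : F ≃+* F, ∀ v, σ (e v) = e ⟨(y : G) * v * (y : G)⁻¹, hN y v⟩ := fun y => by
    obtain ⟨σ, hσ⟩ := he y (hYN y.2) (Subgroup.mem_centralizer_singleton_iff.1 (hYs y.2))
    exact ⟨σ, fun v => (hσ v ⟨_, hN y v⟩ rfl).symm⟩
  choose σ hσ using hσ
  let Φ : Y →* RingAut F :=
    { toFun := σ
      map_one' := RingEquiv.ext fun x => by
        obtain ⟨v, rfl⟩ := e.surjective x
        rw [hσ]
        exact congrArg e (Subtype.ext (by simp))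
      map_mul' := fun y z => RingEquiv.ext fun x => by
        obtain ⟨v, rfl⟩ := e.surjective x
        show σ (y * z) (e v) = σ y (σ z (e v))
        rw [hσ, hσ, hσ]
        exact congrArg e (Subtype.ext (by simp [mul_assoc])) }
  have hker : Φ.ker = (Subgroup.centralizer ((P : Subgroup G) : Set G)).subgroupOf Y := by
    ext y
    rw [MonoidHom.mem_ker, Subgroup.mem_subgroupOf, Subgroup.mem_centralizer_iff]
    constructor
    · intro h v hv
      have h1 := hσ y ⟨v, hv⟩
      rw [show σ y = 1 from h] at h1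
      have h2 : (y : G) * v * (y : G)⁻¹ = v := (congrArg Subtype.val (e.injective h1)).symm
      exact (mul_inv_eq_iff_eq_mul.1 h2).symm
    · intro h
      refine RingEquiv.ext fun x => ?_
      obtain ⟨v, rfl⟩ := e.surjective x
      show σ y (e v) = e v
      rw [hσ]
      exact congrArg e (Subtype.ext (by
        show (y : G) * v * (y : G)⁻¹ = v
        rw [← h v v.2, mul_inv_cancel_right]))
  set o := (Subgroup.centralizer ((P : Subgroup G) : Set G)).relIndex Y with ho
  have hAo : Nat.card Φ.range = o := by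
    rw [← Subgroup.index_ker, hker]; rfl
  have hoodd : Odd o := (D.odd_relIndex P).of_dvd_nat
    (Dvd.intro _ (Subgroup.relIndex_mul_relIndex _ _ _ hCY hYN))
  have ho3 : 3 ≤ o := by
    have h1 : o ≠ 1 := fun h => hne (le_antisymm (Subgroup.relIndex_eq_one.1 h) hCY)
    obtain ⟨m, hm⟩ := hoodd
    omega
  letI : MulSemiringAction Φ.range F := MulSemiringAction.compHom F Φ.range.subtype
  haveI : FaithfulSMul Φ.range F := ⟨fun {a b} h => Subtype.ext (RingEquiv.ext h)⟩
  haveI := Fintype.ofFinite Φ.range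
  set E := FixedPoints.subfield Φ.range F with hE
  have hfix : Nat.card ↥((P : Subgroup G) ⊓ Subgroup.centralizer (Y : Set G)) = Nat.card E := by
    refine (Nat.card_congr (α := {v : (P : Subgroup G) //
      (v : G) ∈ Subgroup.centralizer (Y : Set G)}) ?_).symm.trans
        (Nat.card_congr (e.subtypeEquiv fun v => ?_))
    · exact (Equiv.subtypeSubtypeEquivSubtypeInter _ _)
    · show _ ↔ ∀ a : Φ.range, a • e v = e v
      rw [Subgroup.mem_centralizer_iff]
      constructor
      · rintro h ⟨_, y, rfl⟩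
        show σ y (e v) = e v
        rw [hσ]
        exact congrArg e (Subtype.ext (by
          show (y : G) * v * (y : G)⁻¹ = v
          rw [h y y.2, mul_inv_cancel_right]))
      · intro h y hy
        have h1 : σ ⟨y, hy⟩ (e v) = e v := h ⟨Φ ⟨y, hy⟩, _, rfl⟩
        rw [hσ] at h1
        have h2 : y * v * y⁻¹ = v := congrArg Subtype.val (e.injective h1)
        exact mul_inv_eq_iff_eq_mul.1 h2
  have hF : Nat.card (P : Subgroup G) = Nat.card E ^ o := by
    rw [Nat.card_congr e, Module.natCard_eq_pow_finrank (K := E) (V := F),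
      @FixedPoints.finrank_eq_card Φ.range F _ _ _ _
        ⟨fun {a b} h => Subtype.ext (RingEquiv.ext h)⟩, ← Nat.card_eq_fintype_card, hAo]
  have hc : 2 ≤ Nat.card E := Finite.one_lt_card
  rw [hfix, hF]
  exact arith hc ho3 (fun h => hq8 (by rw [← card_sylow P, hF, h])) hoodd

end Cfsg.Agent.DegreeGap
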