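import Cfsg.Agent.Lib.DegreeGap.Basic

/-!
# The constant difference configuration with Sylow 2-subgroups of order at least 4
-/

set_option autoImplicit false
set_option linter.style.haveILetI false
set_option linter.unusedSectionVars false

namespace Cfsg.Agent.DegreeGap

open Cfsg Cfsg.Agent Cfsg.Agent.Blocks
open scoped ComplexConjugate Pointwise

universe u

variable {G : Type u} [Group G] [Fintype G]

/-- The configuration. -/
structure Data (M : Ideal AlgInt) (u s : G) : Prop where
  gap : Gap M u (twoPart G : ℂ)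
  order : orderOf s = 2
  ppart : IsPPart 2 u s
  fused : ∀ v : G, (∃ e, orderOf v = 2 ^ e) → v ≠ 1 → IsConj v s
  four : 4 ≤ twoPart G

variable {M : Ideal AlgInt} {u s : G} (D : Data M u s)
include D

theorem Data.orderOf_eq {v : G} (hv : ∃ e, orderOf v = 2 ^ e) (hv1 : v ≠ 1) : orderOf v = 2 := by
  obtain ⟨c, hc⟩ := isConj_iff.1 (D.fused v hv hv1)
  rw [← D.order, ← hc, show c * v * c⁻¹ = MulAut.conj c v from rfl, MulEquiv.orderOf_eq]

variable [Fact (Nat.Prime 2)]

theorem Data.sq_eq_one (P : Sylow 2 G) {v : G} (hv : v ∈ (P : Subgroup G)) : v * v = 1 := by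
  by_cases h : v = 1
  · rw [h, one_mul]
  have := pow_orderOf_eq_one v
  rwa [D.orderOf_eq (by
    obtain ⟨e, he⟩ := IsPGroup.iff_orderOf.1 P.2 ⟨v, hv⟩
    exact ⟨e, by rwa [← Subgroup.orderOf_coe] at he⟩) h, pow_two] at this

theorem Data.isConj_of_mem (P : Sylow 2 G) {v : G} (hv : v ∈ (P : Subgroup G)) (hv1 : v ≠ 1) :
    IsConj v s := by
  obtain ⟨e, he⟩ := IsPGroup.iff_orderOf.1 P.2 ⟨v, hv⟩
  exact D.fused v ⟨e, by rwa [← Subgroup.orderOf_coe] at he⟩ hv1

theorem Data.comm (P : Sylow 2 G) {a b : G} (ha : a ∈ (P : Subgroup G))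
    (hb : b ∈ (P : Subgroup G)) : a * b = b * a := by
  have h1 := D.sq_eq_one P ha
  have h2 := D.sq_eq_one P hb
  have h3 := D.sq_eq_one P (mul_mem ha hb)
  calc a * b = a * (a * b * (a * b)) * b := by rw [h3, mul_one]
    _ = a * a * (b * a) * (b * b) := by group
    _ = b * a := by rw [h1, h2, one_mul, mul_one]

theorem Data.exists_sylow : ∃ P : Sylow 2 G, s ∈ (P : Subgroup G) := by
  obtain ⟨P, hP⟩ := IsPGroup.exists_le_sylow (p := 2) (P := Subgroup.zpowers s)
    (IsPGroup.of_card (n := 1) (by rw [Nat.card_zpowers, D.order, pow_one]))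
  exact ⟨P, hP (Subgroup.mem_zpowers s)⟩

theorem Data.singular_u : ¬ IsPRegular 2 u := by
  obtain ⟨i, hi⟩ := IsPPart.mem_zpowers D.ppart
  intro h
  apply h
  exact (D.order ▸ orderOf_dvd_of_mem_zpowers ⟨i, hi⟩ : 2 ∣ orderOf u)

theorem Data.singular_s : ¬ IsPRegular 2 s := fun h => h (by rw [D.order])

theorem Data.apply_u {χ : IrrCharacter G} (hχ : χ ∈ principalBlock M G)
    (hne : χ ≠ Char.trivialChar G) : χ.1 u = χ.1 1 - (twoPart G : ℂ) := by
  linear_combination -(D.gap χ hχ hne)

/-- No non-principal linear character lies in the block. -/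
theorem Data.linear_eq_trivial {lam : G →* ℂ} (h : Char.linIrr lam ∈ principalBlock M G) :
    lam = 1 := by
  by_contra hne
  have hne' : Char.linIrr lam ≠ Char.trivialChar G := fun e =>
    hne (MonoidHom.ext fun g => by simpa using congrFun (congrArg Subtype.val e) g)
  have h1 := D.apply_u h hne'
  simp only [Char.linIrr_apply, map_one] at h1
  have h2 := Char.normSq_linear lam u
  rw [h1, map_sub, map_one, map_natCast] at h2
  have h3 : (twoPart G : ℂ) * ((twoPart G : ℂ) - 2) = 0 := by linear_combination h2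
  have := D.four
  rcases mul_eq_zero.1 h3 with h4 | h4
  · rw [Nat.cast_eq_zero] at h4; omega
  · rw [sub_eq_zero] at h4
    have : twoPart G = 2 := by exact_mod_cast h4
    omega

variable [M.IsMaximal] (hpM : ((2 : ℕ) : AlgInt) ∈ M)
include hpM

/-- A normal subgroup of odd index containing the centraliser of a Sylow 2-subgroup is everything. -/
theorem Data.eq_top (P : Sylow 2 G) (L : Subgroup G) [L.Normal] (hodd : Odd L.index)
    (hC : Subgroup.centralizer ((P : Subgroup G) : Set G) ≤ L) : L = ⊤ := by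
  by_contra hL
  obtain ⟨lam, hne, hker, -⟩ := exists_linear L hL hodd
  refine hne (D.linear_eq_trivial ?_)
  have h := twist_mem hpM P lam (fun g hg => hker g (hC hg))
    (χ := Char.trivialChar G) trivial_mem_principalBlock
  convert h using 1
  exact Subtype.ext (funext fun g => by simp [Char.trivialChar_apply])

theorem Data.exists_int_value {χ : IrrCharacter G} : ∃ z : ℤ, χ.1 s = z := by
  refine Char.exists_int_of_forall_pow (Char.irr_isCharacter χ) s fun j hj => ?_
  have h2 : s ^ 2 = 1 := D.order ▸ pow_orderOf_eq_one s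
  rw [D.order, Nat.coprime_two_right] at hj
  obtain ⟨m, rfl⟩ := hj
  rw [pow_succ, pow_mul, h2, one_pow, one_mul]

/-- A character of the block trivial at the involutions is principal. -/
theorem Data.eq_trivial_of_apply_s {χ : IrrCharacter G} (hχ : χ ∈ principalBlock M G)
    (hs : χ.1 s = χ.1 1) : χ = Char.trivialChar G := by
  classical
  obtain ⟨P, -⟩ := D.exists_sylow
  set K := CharInt.charKernel (Char.irr_isCharacter χ) with hK
  haveI : K.Normal := CharInt.charKernel_normal _
  have hPK : (P : Subgroup G) ≤ K := fun v hv => by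
    rw [CharInt.mem_charKernel]
    by_cases h : v = 1
    · rw [h]
    rw [CharInt.char_eq_of_isConj (Char.irr_isCharacter χ) (D.isConj_of_mem P hv h), hs]
  have hKodd : Odd K.index := by
    have h := Subgroup.index_dvd_of_le hPK
    refine Nat.not_even_iff_odd.1 fun he => P.not_dvd_index ((even_iff_two_dvd.1 he).trans h)
  set L := K ⊔ Subgroup.centralizer ((P : Subgroup G) : Set G) with hL
  have hLN : L.Normal := by
    refine Subgroup.normalizer_eq_top_iff.1 (top_le_iff.1 ?_)
    haveI : Finite (Sylow 2 K) := inferInstance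
    rw [← Sylow.normalizer_sup_eq_top (P.subtype hPK), Sylow.coe_subtype,
      Subgroup.map_subgroupOf_eq_of_le hPK]
    refine sup_le (fun g hg => ?_) ((le_sup_left).trans Subgroup.le_normalizer)
    rw [Subgroup.mem_normalizer_iff]
    intro x
    have key : ∀ g ∈ Subgroup.normalizer ((P : Subgroup G) : Set G), ∀ x ∈ L, g * x * g⁻¹ ∈ L := by
      intro g hg x hx
      have hle : L ≤ L.comap (MulAut.conj g).toMonoidHom := by
        refine sup_le (fun k hk => Subgroup.mem_sup_left (Subgroup.Normal.conj_mem' ‹K.Normal› k hk g⁻¹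
          |> fun h => by simpa using h)) fun c hc => Subgroup.mem_sup_right ?_
        rw [Subgroup.mem_centralizer_iff]
        intro y hy
        have hy' : g⁻¹ * y * g ∈ (P : Subgroup G) := by
          simpa using (Subgroup.mem_normalizer_iff.1 (inv_mem hg) y).1 hy
        have h1 := Subgroup.mem_centralizer_iff.1 hc _ hy'
        show y * (g * c * g⁻¹) = g * c * g⁻¹ * y
        calc y * (g * c * g⁻¹) = g * (g⁻¹ * y * g * c) * g⁻¹ := by group
          _ = g * (c * (g⁻¹ * y * g)) * g⁻¹ := by rw [h1]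
          _ = g * c * g⁻¹ * y := by group
      exact hle hx
    refine ⟨key g hg x, fun h => ?_⟩
    simpa [mul_assoc] using key g⁻¹ (inv_mem hg) _ h
  haveI := hLN
  have hLtop : L = ⊤ := D.eq_top hpM P L
    (hKodd.of_dvd_nat (Subgroup.index_dvd_of_le le_sup_left)) le_sup_right
  have hdodd : ¬ 2 ∣ Char.degree χ := by
    intro hd
    have h1 := Char.card_kernel_mul_charDegree_dvd χ
    rw [show Nat.card {g : G // χ.1 g = χ.1 1} = Nat.card K from
      Nat.card_congr (Equiv.subtypeEquivRight fun g => (CharInt.mem_charKernel _).symm),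
      ← Subgroup.card_mul_index K] at h1
    have h2 := Nat.dvd_of_mul_dvd_mul_left Nat.card_pos h1
    have h3 : (charDegree χ.1 : ℕ) = Char.degree χ := by
      have e1 := Char.charDegree_cast χ
      rw [Char.apply_one_eq_degree] at e1
      exact_mod_cast e1
    rw [h3] at h2
    exact Nat.not_even_iff_odd.2 hKodd (even_iff_two_dvd.2 (hd.trans h2))
  have hd1 : ¬ MemLocalIdeal M (χ.1 1) := by
    rwa [Char.apply_one_eq_degree, memLocalIdeal_natCast_iff hpM]
  have hint : ∀ g, MemLocalRing M (χ.1 g) := memLocalRing_irr χ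
  have hcong : ∀ c ∈ Subgroup.centralizer ((P : Subgroup G) : Set G),
      MemLocalIdeal M (χ.1 c - χ.1 1) := by
    intro c hc
    have hle : (P : Subgroup G) ≤ Subgroup.centralizer ({c} : Set G) := fun y hy =>
      Subgroup.mem_centralizer_singleton_iff.2 (Subgroup.mem_centralizer_iff.1 hc y hy)
    have hodd : ¬ 2 ∣ (Subgroup.centralizer ({c} : Set G)).index := fun h =>
      P.not_dvd_index (h.trans (Subgroup.index_dvd_of_le hle))
    have h1 := hχ c
    simp only [centralChar, mul_one, div_one] at h1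
    set i : ℂ := ((Subgroup.centralizer ({c} : Set G)).index : ℂ)
    have hi : ¬ MemLocalIdeal M i := fun h => hodd ((memLocalIdeal_natCast_iff hpM _).1 h)
    have hne : χ.1 1 ≠ 0 := irr_one_ne_zero χ
    have h2 : MemLocalIdeal M (i * (χ.1 c - χ.1 1)) := by
      have := MemLocalIdeal.neg (MemLocalIdeal.mul_right h1 (hint 1))
      rwa [show -((i - i * χ.1 c / χ.1 1) * χ.1 1) = i * (χ.1 c - χ.1 1) by field_simp; ring] at this
    exact (MemLocalIdeal.mem_or_mem (memLocalRing_natCast _) (MemLocalRing.sub (hint c) (hint 1))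
      h2).resolve_left hi
  obtain ⟨ψ, hψ⟩ := Char.exists_descend K χ fun g hg => (CharInt.mem_charKernel _).1 hg
  by_contra hne
  haveI := Fintype.ofFinite (G ⧸ K)
  have hψne : ψ ≠ Char.trivialChar (G ⧸ K) := fun e => hne (Subtype.ext (funext fun g => by
    rw [← hψ g, e]; rfl))
  have hsum : ∑ x : G ⧸ K, ψ.1 x = 0 := by
    have h := Char.classInner_irr ψ (Char.trivialChar (G ⧸ K))
    simpa [classInner, hψne] using h
  have hval : ∀ x : G ⧸ K, red M (ψ.1 x) = red M (χ.1 1) := by
    intro x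
    obtain ⟨g, rfl⟩ := QuotientGroup.mk_surjective x
    rw [hψ, red_eq_iff (hint g) (hint 1)]
    obtain ⟨k, hk, c, hc, rfl⟩ : g ∈ (K : Set G) * ((Subgroup.centralizer ((P : Subgroup G) : Set G) : Subgroup G) : Set G) := by
      rw [← Subgroup.normal_mul, ← hL, hLtop]; trivial
    rw [CharInt.char_mul_of_mem_kernel (Char.irr_isCharacter χ) ((CharInt.mem_charKernel _).1 hk)]
    exact hcong c hc
  haveI := charP_residue (p := 2) hpM
  have h0 := congrArg (red M) hsum
  rw [red_sum _ fun x _ => memLocalRing_irr ψ x, red_zero, Finset.sum_congr rfl fun x _ => hval x,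
    Finset.sum_const, nsmul_eq_mul] at h0
  rcases mul_eq_zero.1 h0 with h | h
  · rw [CharP.cast_eq_zero_iff (AlgInt ⧸ M) 2, Finset.card_univ, ← Nat.card_eq_fintype_card,
      ← Subgroup.index_eq_card] at h
    exact Nat.not_even_iff_odd.2 hKodd (even_iff_two_dvd.2 h)
  · exact hd1 ((red_eq_zero_iff (hint 1)).1 h)

/-- The key equality `χ(s) = χ(1) - q`. -/
theorem Data.apply_s {χ : IrrCharacter G} (hχ : χ ∈ principalBlock M G)
    (hne : χ ≠ Char.trivialChar G) : χ.1 s = χ.1 1 - (twoPart G : ℂ) := by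
  classical
  obtain ⟨P, -⟩ := D.exists_sylow
  haveI := Fintype.ofFinite (P : Subgroup G)
  set q := twoPart G with hq
  have hm : ∀ χ : IrrCharacter G, ∃ m : ℤ, χ.1 1 - χ.1 s = (q : ℂ) * (m : ℂ) := by
    intro χ
    obtain ⟨z, hz⟩ := D.exists_int_value hpM (χ := χ)
    obtain ⟨n, hn⟩ := BlocksX.Klein.classInner_eq_nat
      (Char.IsCharacter.restrict (Char.irr_isCharacter χ) (P : Subgroup G))
    refine ⟨(n : ℤ) - z, ?_⟩
    have hsum : ∑ x : (P : Subgroup G), χ.1 x = χ.1 1 + ((q : ℂ) - 1) * χ.1 s := by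
      rw [← Finset.add_sum_erase _ _ (Finset.mem_univ (1 : (P : Subgroup G))),
        Finset.sum_congr rfl (g := fun _ => χ.1 s) fun x hx =>
          CharInt.char_eq_of_isConj (Char.irr_isCharacter χ) (D.isConj_of_mem P x.2 fun h =>
            (Finset.mem_erase.1 hx).1 (Subtype.ext h)),
        Finset.sum_const, nsmul_eq_mul, Finset.card_erase_of_mem (Finset.mem_univ _),
        Finset.card_univ, ← Nat.card_eq_fintype_card, card_sylow, ← hq,
        Nat.cast_sub (by have := D.four; omega), Nat.cast_one]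
      rfl
    have hq0 : (q : ℂ) ≠ 0 := by have := D.four; exact_mod_cast (by omega : q ≠ 0)
    rw [hsum, card_sylow, ← hq, inv_mul_eq_iff_eq_mul₀ hq0] at hn
    push_cast
    rw [← hz]
    linear_combination hn
  choose m hm using hm
  have hpos : ∀ χ ∈ (blk M G).erase (Char.trivialChar G), 1 ≤ m χ := by
    intro χ hχ
    obtain ⟨hne', hmem⟩ := Finset.mem_erase.1 hχ
    by_contra hlt
    obtain ⟨z, hz⟩ := D.exists_int_value hpM (χ := χ)
    have hle := CharInt.norm_char_le (Char.irr_isCharacter χ) s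
    rw [hz, Char.apply_one_eq_degree, Complex.norm_intCast, Complex.norm_natCast] at hle
    have h1 : ((Char.degree χ : ℤ) : ℂ) - (z : ℂ) = ((q : ℤ) * m χ : ℤ) := by
      push_cast; rw [← hz, ← hm χ, Char.apply_one_eq_degree]
    have h2 : (Char.degree χ : ℤ) - z = (q : ℤ) * m χ := by exact_mod_cast h1
    have h3 : z ≤ (Char.degree χ : ℤ) := by
      have := (abs_le.1 hle).2
      exact_mod_cast this
    refine hne' (D.eq_trivial_of_apply_s hpM (mem_blk.1 hmem) ?_)
    have h4 : (q : ℤ) * m χ ≤ 0 := mul_nonpos_of_nonneg_of_nonpos (Int.natCast_nonneg _) (by omega)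
    rw [hz, Char.apply_one_eq_degree]
    exact_mod_cast (by omega : z = (Char.degree χ : ℤ))
  have hcolu := sum_deg_singular hpM D.singular_u
  have hcols := sum_deg_singular hpM D.singular_s
  rw [sum_blk_split] at hcolu hcols
  simp only [Char.trivialChar_apply, mul_one] at hcolu hcols
  have hzero : ∑ χ ∈ (blk M G).erase (Char.trivialChar G),
      (((Char.degree χ : ℤ) * (m χ - 1) : ℤ) : ℂ) * (q : ℂ) = 0 := by
    rw [← sub_eq_zero.2 (hcolu.trans hcols.symm)] 
    rw [add_sub_add_left_eq_sub, ← Finset.sum_sub_distrib]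
    refine Finset.sum_congr rfl fun χ hχ => ?_
    obtain ⟨hne', hmem⟩ := Finset.mem_erase.1 hχ
    rw [D.apply_u (mem_blk.1 hmem) hne', Int.cast_mul, Int.cast_sub, Int.cast_natCast,
      Int.cast_one, ← Char.apply_one_eq_degree]
    linear_combination -(χ.1 1) * hm χ
  rw [← Finset.sum_mul, ← Int.cast_sum] at hzero
  have hq0 : (q : ℂ) ≠ 0 := by have := D.four; exact_mod_cast (by omega : q ≠ 0)
  have h5 : ∑ χ ∈ (blk M G).erase (Char.trivialChar G), (Char.degree χ : ℤ) * (m χ - 1) = 0 :=
    Int.cast_eq_zero.1 ((mul_eq_zero.1 hzero).resolve_right hq0)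
  rw [Finset.sum_eq_zero_iff_of_nonneg fun χ hχ => mul_nonneg (by positivity)
    (by have := hpos χ hχ; omega)] at h5
  have h6 := h5 χ (Finset.mem_erase.2 ⟨hne, mem_blk.2 hχ⟩)
  rcases mul_eq_zero.1 h6 with h | h
  · have := Char.degree_pos χ; omega
  · have h7 := hm χ
    rw [show m χ = 1 by omega, Int.cast_one, mul_one] at h7
    linear_combination -h7

theorem Data.apply_mem {χ : IrrCharacter G} (hχ : χ ∈ principalBlock M G)
    (hne : χ ≠ Char.trivialChar G) (P : Sylow 2 G) {v : G} (hv : v ∈ (P : Subgroup G))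
    (hv1 : v ≠ 1) : χ.1 v = χ.1 1 - (twoPart G : ℂ) := by
  rw [CharInt.char_eq_of_isConj (Char.irr_isCharacter χ) (D.isConj_of_mem P hv hv1),
    D.apply_s hpM hχ hne]

/-- The degrees in the block are at least `q - 1`. -/
theorem Data.le_degree {χ : IrrCharacter G} (hmem : χ ∈ principalBlock M G)
    (hne : χ ≠ Char.trivialChar G) : (twoPart G : ℤ) - 1 ≤ Char.degree χ := by
  classical
  obtain ⟨P, hsP⟩ := D.exists_sylow
  haveI := Fintype.ofFinite (P : Subgroup G)
  set q := twoPart G with hq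
  obtain ⟨n, hn⟩ := BlocksX.Klein.classInner_eq_nat
    (Char.IsCharacter.restrict (Char.irr_isCharacter χ) (P : Subgroup G))
  have hsum : ∑ x : (P : Subgroup G), χ.1 x =
      χ.1 1 + ((q : ℂ) - 1) * (χ.1 1 - (q : ℂ)) := by
    rw [← Finset.add_sum_erase _ _ (Finset.mem_univ (1 : (P : Subgroup G))),
      Finset.sum_congr rfl (g := fun _ => χ.1 1 - (q : ℂ)) fun x hx =>
        D.apply_mem hpM hmem hne P x.2 fun h =>
          (Finset.mem_erase.1 hx).1 (Subtype.ext h),
      Finset.sum_const, nsmul_eq_mul, Finset.card_erase_of_mem (Finset.mem_univ _),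
      Finset.card_univ, ← Nat.card_eq_fintype_card, card_sylow, ← hq,
      Nat.cast_sub (by have := D.four; omega), Nat.cast_one]
    rfl
  have hq0 : (q : ℂ) ≠ 0 := by have := D.four; exact_mod_cast (by omega : q ≠ 0)
  rw [hsum, card_sylow, ← hq, inv_mul_eq_iff_eq_mul₀ hq0, Char.apply_one_eq_degree] at hn
  have h1 : (q : ℂ) * (((Char.degree χ : ℤ) - ((q : ℤ) - 1) - (n : ℤ) : ℤ) : ℂ) = 0 := by
    push_cast; linear_combination hn
  have h2 := (mul_eq_zero.1 h1).resolve_left hq0
  rw [Int.cast_eq_zero] at h2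
  omega

/-- The block has a character of degree `q - 1`. -/
theorem Data.exists_small : ∃ χ ∈ principalBlock M G, χ ≠ Char.trivialChar G ∧
    χ.1 1 = (twoPart G : ℂ) - 1 := by
  classical
  obtain ⟨P, hsP⟩ := D.exists_sylow
  haveI := Fintype.ofFinite (P : Subgroup G)
  set q := twoPart G with hq
  have hcols := sum_deg_singular hpM D.singular_s
  rw [sum_blk_split] at hcols
  simp only [Char.trivialChar_apply, mul_one] at hcols
  have hlow : ∀ χ ∈ (blk M G).erase (Char.trivialChar G), (q : ℤ) - 1 ≤ Char.degree χ :=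
    fun χ hχ => D.le_degree hpM (mem_blk.1 (Finset.mem_erase.1 hχ).2) (Finset.mem_erase.1 hχ).1
  by_contra hno
  have hterm : ∀ χ ∈ (blk M G).erase (Char.trivialChar G),
      (0 : ℤ) ≤ (Char.degree χ : ℤ) * ((Char.degree χ : ℤ) - q) := by
    intro χ hχ
    refine mul_nonneg (by positivity) ?_
    obtain ⟨hne, hmem⟩ := Finset.mem_erase.1 hχ
    have h1 := hlow χ hχ
    by_contra hlt
    refine hno ⟨χ, mem_blk.1 hmem, hne, ?_⟩
    rw [Char.apply_one_eq_degree]
    have : (Char.degree χ : ℤ) = (q : ℤ) - 1 := by omega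
    exact_mod_cast this
  have heq : ((1 + ∑ χ ∈ (blk M G).erase (Char.trivialChar G),
      (Char.degree χ : ℤ) * ((Char.degree χ : ℤ) - q) : ℤ) : ℂ) = 0 := by
    rw [← hcols, Int.cast_add, Int.cast_one, Int.cast_sum]
    refine congrArg _ (Finset.sum_congr rfl fun χ hχ => ?_)
    obtain ⟨hne, hmem⟩ := Finset.mem_erase.1 hχ
    rw [D.apply_s hpM (mem_blk.1 hmem) hne, Char.apply_one_eq_degree]
    push_cast
    rfl
  rw [Int.cast_eq_zero] at heq
  have := Finset.sum_nonneg hterm
  omega

end Cfsg.Agent.DegreeGap
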